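import Cfsg.Agent.H37.LyPerm.PartEll0

/-!
Kernel check of a certified element list.
-/

set_option autoImplicit false
set_option Elab.async false
set_option maxRecDepth 100000

namespace Cfsg.Agent.H37.LyPerm

open Cfsg.Agent.Compute Cfsg.Agent.H27.LyG2 Data

theorem gEll_eq : gEll = WEll.map Seven.evM := by decide +kernel

theorem oneEll : (look (treeOf 7 LEll) Seven.o.one).isSome = true := by decide +kernel

theorem incrEll : incr LEll 0 = true := by decide +kernel

theorem allEll : lall LEll (entryOK (treeOf 7 LEll) gEll giEll) = true := by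
  rw [lall_iff]
  intro x hx
  simp only [LEll, List.mem_flatten, List.mem_cons, List.not_mem_nil, or_false] at hx
  obtain ⟨l, hl, hx⟩ := hx
  subst hl
  exact (lall_iff _ _).1 allEll0 x hx

theorem involsEll : invols LEll = 7 := by decide +kernel

theorem lenEll : LEll.length = 96 := by decide +kernel

theorem specEll : Nat.card (mgrp WEll) = 96 ∧
    Nat.card {k : mgrp WEll // orderOf k = 2} ≤ 7 := by
  have h := closure_spec gEll_eq oneEll incrEll allEll
  rw [lenEll, involsEll] at h
  exact ⟨h.1, h.2.1⟩

end Cfsg.Agent.H37.LyPerm
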