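import Cfsg.Agent.H37.LyPerm.PartFour0

/-!
Kernel check of a certified element list.
-/

set_option autoImplicit false
set_option Elab.async false
set_option maxRecDepth 100000

namespace Cfsg.Agent.H37.LyPerm

open Cfsg.Agent.Compute Cfsg.Agent.H27.LyG2 Data

theorem gFour_eq : gFour = WFour.map Seven.evM := by decide +kernel

theorem oneFour : (look (treeOf 10 LFour) Seven.o.one).isSome = true := by decide +kernel

theorem incrFour : incr LFour 0 = true := by decide +kernel

theorem allFour : lall LFour (entryOK (treeOf 10 LFour) gFour giFour) = true := by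
  rw [lall_iff]
  intro x hx
  simp only [LFour, List.mem_flatten, List.mem_cons, List.not_mem_nil, or_false] at hx
  obtain ⟨l, hl, hx⟩ := hx
  subst hl
  exact (lall_iff _ _).1 allFour0 x hx

theorem involsFour : invols LFour = 105 := by decide +kernel

theorem lenFour : LFour.length = 1008 := by decide +kernel

theorem specFour : Nat.card (mgrp WFour) = 1008 ∧
    Nat.card {k : mgrp WFour // orderOf k = 2} ≤ 105 := by
  have h := closure_spec gFour_eq oneFour incrFour allFour
  rw [lenFour, involsFour] at h
  exact ⟨h.1, h.2.1⟩

end Cfsg.Agent.H37.LyPerm
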