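import Cfsg.Agent.H37.LyPerm.PartPee0
import Cfsg.Agent.H37.LyPerm.PartPee1
import Cfsg.Agent.H37.LyPerm.PartPee2
import Cfsg.Agent.H37.LyPerm.PartPee3

/-!
Kernel check of a certified element list.
-/

set_option autoImplicit false
set_option Elab.async false
set_option maxRecDepth 100000

namespace Cfsg.Agent.H37.LyPerm

open Cfsg.Agent.Compute Cfsg.Agent.H27.LyG2 Data

theorem gPee_eq : gPee = WPee.map Seven.evM := by decide +kernel

theorem onePee : (look (treeOf 12 LPee) Seven.o.one).isSome = true := by decide +kernel

theorem incrPee : incr LPee 0 = true := by decide +kernel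

theorem allPee : lall LPee (entryOK (treeOf 12 LPee) gPee giPee) = true := by
  rw [lall_iff]
  intro x hx
  simp only [LPee, List.mem_flatten, List.mem_cons, List.not_mem_nil, or_false] at hx
  obtain ⟨l, hl, hx⟩ := hx
  rcases hl with rfl | rfl | rfl | rfl
  · exact (lall_iff _ _).1 allPee0 x hx
  · exact (lall_iff _ _).1 allPee1 x hx
  · exact (lall_iff _ _).1 allPee2 x hx
  · exact (lall_iff _ _).1 allPee3 x hx

theorem involsPee : invols LPee = 0 := by decide +kernel

theorem lenPee : LPee.length = 3125 := by decide +kernel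

theorem specPee : Nat.card (mgrp WPee) = 3125 ∧
    Nat.card {k : mgrp WPee // orderOf k = 2} ≤ 0 := by
  have h := closure_spec gPee_eq onePee incrPee allPee
  rw [lenPee, involsPee] at h
  exact ⟨h.1, h.2.1⟩

end Cfsg.Agent.H37.LyPerm
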