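import Cfsg.Agent.H37.LyPerm.DataThree

/-!
Kernel check of one part of a certified element list.
-/

set_option autoImplicit false
set_option Elab.async false
set_option maxRecDepth 100000

namespace Cfsg.Agent.H37.LyPerm

open Cfsg.Agent.Compute Cfsg.Agent.H27.LyG2 Data

theorem allThree1 : lall pThree1 (entryOK (treeOf 12 LThree) gThree giThree) = true := by decide +kernel

end Cfsg.Agent.H37.LyPerm
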