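import Cfsg.Agent.H37.LyPerm.PartThree0
import Cfsg.Agent.H37.LyPerm.PartThree1

/-!
Kernel check of a certified element list.
-/

set_option autoImplicit false
set_option Elab.async false
set_option maxRecDepth 100000

namespace Cfsg.Agent.H37.LyPerm

open Cfsg.Agent.Compute Cfsg.Agent.H27.LyG2 Data

theorem gThree_eq : gThree = WThree.map Seven.evM := by decide +kernel

theorem oneThree : (look (treeOf 12 LThree) Seven.o.one).isSome = true := by decide +kernel

theorem incrThree : incr LThree 0 = true := by decide +kernel

theorem allThree : lall LThree (entryOK (treeOf 12 LThree) gThree giThree) = true := by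
  rw [lall_iff]
  intro x hx
  simp only [LThree, List.mem_flatten, List.mem_cons, List.not_mem_nil, or_false] at hx
  obtain ⟨l, hl, hx⟩ := hx
  rcases hl with rfl | rfl
  · exact (lall_iff _ _).1 allThree0 x hx
  · exact (lall_iff _ _).1 allThree1 x hx

theorem involsThree : invols LThree = 211 := by decide +kernel

theorem lenThree : LThree.length = 2880 := by decide +kernel

theorem specThree : Nat.card (mgrp WThree) = 2880 ∧
    Nat.card {k : mgrp WThree // orderOf k = 2} ≤ 211 := by
  have h := closure_spec gThree_eq oneThree incrThree allThree
  rw [lenThree, involsThree] at h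
  exact ⟨h.1, h.2.1⟩

end Cfsg.Agent.H37.LyPerm
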