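import Cfsg.Agent.H37.LyPerm.PartTwo0
import Cfsg.Agent.H37.LyPerm.PartTwo1
import Cfsg.Agent.H37.LyPerm.PartTwo2
import Cfsg.Agent.H37.LyPerm.PartTwo3

/-!
Kernel check of a certified element list.
-/

set_option autoImplicit false
set_option Elab.async false
set_option maxRecDepth 100000

namespace Cfsg.Agent.H37.LyPerm

open Cfsg.Agent.Compute Cfsg.Agent.H27.LyG2 Data

theorem gTwo_eq : gTwo = WTwo.map Seven.evM := by decide +kernel

theorem oneTwo : (look (treeOf 13 LTwo) Seven.o.one).isSome = true := by decide +kernel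

theorem incrTwo : incr LTwo 0 = true := by decide +kernel

theorem allTwo : lall LTwo (entryOK (treeOf 13 LTwo) gTwo giTwo) = true := by
  rw [lall_iff]
  intro x hx
  simp only [LTwo, List.mem_flatten, List.mem_cons, List.not_mem_nil, or_false] at hx
  obtain ⟨l, hl, hx⟩ := hx
  rcases hl with rfl | rfl | rfl | rfl
  · exact (lall_iff _ _).1 allTwo0 x hx
  · exact (lall_iff _ _).1 allTwo1 x hx
  · exact (lall_iff _ _).1 allTwo2 x hx
  · exact (lall_iff _ _).1 allTwo3 x hx

theorem involsTwo : invols LTwo = 63 := by decide +kernel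

theorem lenTwo : LTwo.length = 6048 := by decide +kernel

theorem specTwo : Nat.card (mgrp WTwo) = 6048 ∧
    Nat.card {k : mgrp WTwo // orderOf k = 2} ≤ 63 := by
  have h := closure_spec gTwo_eq oneTwo incrTwo allTwo
  rw [lenTwo, involsTwo] at h
  exact ⟨h.1, h.2.1⟩

end Cfsg.Agent.H37.LyPerm
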