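import Cfsg.Agent.H27.LyG2.Seven

/-!
Certified element lists of small subgroups of the seven-dimensional group over the field with five elements.
-/

set_option autoImplicit false
set_option maxRecDepth 100000

namespace Cfsg.Agent.H37.LyPerm

open Cfsg.Agent.Compute
open Cfsg.Agent.H27.LyG2
open Cfsg.Agent.H45 (evalW)

/-- search trees of (packed matrix, rank and generator) -/
inductive Tr where
  | leaf
  | node (l : Tr) (key info : ℕ) (r : Tr)

/-- balanced tree from a sorted list -/
noncomputable def build : ℕ → List (ℕ × ℕ) → (Tr → List (ℕ × ℕ) → Tr) → Tr :=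
  Nat.rec (fun xs k => k Tr.leaf xs)
    (fun _ ih xs k => ih xs fun l rest =>
      List.rec (k l [])
        (fun x tl _ => ih tl fun r rest' => k (Tr.node l x.1 x.2 r) rest') rest)

/-- lookup -/
noncomputable def look (t : Tr) (x : ℕ) : Option ℕ :=
  Tr.rec none (fun _ key info _ ihl ihr =>
    cond (Nat.beq x key) (some info) (cond (Nat.ble x key) ihl ihr)) t

/-- entries of a tree -/
def Tr.entries : Tr → List (ℕ × ℕ)
  | .leaf => []
  | .node l k i r => l.entries ++ (k, i) :: r.entries

theorem look_mem : ∀ (t : Tr) (x i : ℕ), look t x = some i → (x, i) ∈ t.entries := by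
  intro t
  induction t with
  | leaf => intro x i h; simp [look] at h
  | node l k i0 r ihl ihr =>
    intro x i h
    have h' : look (Tr.node l k i0 r) x =
        cond (Nat.beq x k) (some i0) (cond (Nat.ble x k) (look l x) (look r x)) := rfl
    rw [h'] at h
    simp only [Tr.entries, List.mem_append, List.mem_cons]
    cases hb : Nat.beq x k
    · rw [hb, cond_false] at h
      cases hl : Nat.ble x k
      · rw [hl, cond_false] at h; exact Or.inr (Or.inr (ihr x i h))
      · rw [hl, cond_true] at h; exact Or.inl (ihl x i h)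
    · rw [hb, cond_true] at h
      obtain rfl : i0 = i := Option.some.inj h
      rw [Nat.eq_of_beq_eq_true hb]
      exact Or.inr (Or.inl rfl)

theorem build_subset : ∀ (d : ℕ) (xs : List (ℕ × ℕ)) (k : Tr → List (ℕ × ℕ) → Tr) (all : List (ℕ × ℕ)),
    xs ⊆ all → (∀ l rest, l.entries ⊆ all → rest ⊆ all → (k l rest).entries ⊆ all) →
    (build d xs k).entries ⊆ all := by
  intro d
  induction d with
  | zero => intro xs k all hxs hk; exact hk _ _ (by simp [Tr.entries]) hxs
  | succ d ih =>
    intro xs k all hxs hk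
    refine ih xs _ all hxs fun l rest hl hrest => ?_
    cases rest with
    | nil => exact hk _ _ hl (List.nil_subset _)
    | cons x tl =>
      refine ih tl _ all (fun y hy => hrest (List.mem_cons_of_mem _ hy)) fun r rest' hr hr' =>
        hk _ _ ?_ hr'
      intro y hy
      simp only [Tr.entries, List.mem_append, List.mem_cons] at hy
      rcases hy with hy | hy | hy
      · exact hl hy
      · exact hrest (hy ▸ List.mem_cons_self)
      · exact hr hy

/-- strictly increasing keys -/
noncomputable def incr (l : List (ℕ × ℕ)) : ℕ → Bool :=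
  List.rec (fun _ => true) (fun x _ ih b => Nat.ble b x.1 && ih (x.1 + 1)) l

theorem incr_sound : ∀ (l : List (ℕ × ℕ)) (b : ℕ), incr l b = true →
    (l.map Prod.fst).Nodup ∧ ∀ x ∈ l, b ≤ x.1 := by
  intro l
  induction l with
  | nil => simp
  | cons x t ih =>
    intro b h
    have h' : incr (x :: t) b = (Nat.ble b x.1 && incr t (x.1 + 1)) := rfl
    rw [h', Bool.and_eq_true, Nat.ble_eq] at h
    obtain ⟨hn, hb⟩ := ih _ h.2
    refine ⟨List.nodup_cons.2 ⟨fun hm => ?_, hn⟩, fun y hy => ?_⟩
    · obtain ⟨y, hy, he⟩ := List.mem_map.1 hm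
      have := hb y hy; omega
    · rcases List.mem_cons.1 hy with rfl | hy
      · exact h.1
      · have := hb y hy; omega

/-- number of elements of order two -/
noncomputable def invols (l : List (ℕ × ℕ)) : ℕ :=
  List.rec 0 (fun x _ ih => cond (Seven.o.eqv (Seven.o.mul x.1 x.1) Seven.o.one &&
    !(Seven.o.eqv x.1 Seven.o.one)) (ih + 1) ih) l

/-- one entry: rank zero is the identity, otherwise a predecessor of smaller rank times a generator; closed
under the generators -/
noncomputable def entryOK (T : Tr) (g gi : List ℕ) (x : ℕ × ℕ) : Bool :=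
  cond (Nat.beq (x.2 / 8) 0) (Nat.beq x.1 Seven.o.one)
      (Nat.ble (x.2 % 8 + 1) g.length &&
        Nat.beq (Seven.o.mul (Seven.o.mul x.1 (nth Seven.o.one gi (x.2 % 8)))
          (nth Seven.o.one g (x.2 % 8))) x.1 &&
        Option.rec false (fun i => Nat.ble (i / 8 + 1) (x.2 / 8))
          (look T (Seven.o.mul x.1 (nth Seven.o.one gi (x.2 % 8))))) &&
    lall g fun y => (look T (Seven.o.mul x.1 y)).isSome

/-- the tree of a sorted list -/
noncomputable def treeOf (d : ℕ) (l : List (ℕ × ℕ)) : Tr := build d l fun t _ => t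

/-- the subgroup generated by the matrices of the words -/
noncomputable def mgrp (W : List (List ℕ)) : Subgroup Seven.GL7 :=
  Subgroup.closure {x | ∃ p ∈ W, evalW (lett Seven.f) p = x}

theorem nth_getD : ∀ (m : List ℕ) (j : ℕ), nth Seven.o.one m j = m.getD j Seven.o.one := by
  intro m
  induction m with
  | nil => intro j; rfl
  | cons a t ih =>
    intro j
    cases j with
    | zero => rfl
    | succ j => rw [List.getD_cons_succ, ← ih j]; rfl

attribute [local irreducible] Seven.S mulMat oneMat

theorem mem_step {K : Subgroup Seven.GL7} {x y z : ℕ} (e : Seven.o.mul y z = x) (hy : Seven.S.ok y)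
    (hz : Seven.S.ok z) (my : Seven.S.den y ∈ K) (mz : Seven.S.den z ∈ K) :
    Seven.S.ok x ∧ Seven.S.den x ∈ K := by
  subst e
  exact ⟨Seven.S.ok_mul hy hz, (Seven.S.den_mul hy hz).symm ▸ mul_mem my mz⟩

theorem mem_one {K : Subgroup Seven.GL7} {x : ℕ} (e : x = Seven.o.one) :
    Seven.S.ok x ∧ Seven.S.den x ∈ K := by
  subst e
  exact ⟨Seven.S.ok_one, Seven.S.den_one.symm ▸ one_mem K⟩

/-- The list is exactly the group. -/
theorem closure_spec {W : List (List ℕ)} {g gi : List ℕ} {l : List (ℕ × ℕ)} {d : ℕ}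
    (hg : g = W.map Seven.evM) (hone : (look (treeOf d l) Seven.o.one).isSome = true)
    (hi : incr l 0 = true) (hall : lall l (entryOK (treeOf d l) g gi) = true) :
    Nat.card (mgrp W) = l.length ∧
      Nat.card {k : mgrp W // orderOf k = 2} ≤ invols l ∧
      (∀ x ∈ l, Seven.S.ok x.1 ∧ Seven.S.den x.1 ∈ mgrp W) ∧
      (∀ a ∈ mgrp W, ∃ x ∈ l, Seven.S.den x.1 = a) := by
  classical
  have hTl' : (treeOf d l).entries ⊆ l := build_subset d l _ l (List.Subset.refl _) fun t _ ht _ => ht
  revert hone hall hTl'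
  generalize treeOf d l = T
  intro hone hall hTl
  rw [lall_iff] at hall
  have hgen : ∀ j, j < g.length → Seven.S.ok (nth Seven.o.one g j) ∧
      Seven.S.den (nth Seven.o.one g j) ∈ mgrp W := by
    intro j hj
    have hjW : j < W.length := by rw [hg, List.length_map] at hj; exact hj
    rw [nth_getD, hg, List.getD_eq_getElem _ _ (by rwa [List.length_map]), List.getElem_map]
    exact ⟨(Seven.evM_ok _).1, Subgroup.subset_closure ⟨_, List.getElem_mem hjW, (Seven.evM_ok _).2.symm⟩⟩
  have key : ∀ n (x : ℕ × ℕ), x.2 / 8 < n → x ∈ l → Seven.S.ok x.1 ∧ Seven.S.den x.1 ∈ mgrp W := by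
    intro n
    induction n with
    | zero => intro x hx; omega
    | succ n ih =>
      intro x hx hxl
      have h := hall x hxl
      rw [entryOK, Bool.and_eq_true] at h
      have h1 := h.1
      cases hz : Nat.beq (x.2 / 8) 0
      · rw [hz, cond_false, Bool.and_eq_true, Bool.and_eq_true, Nat.ble_eq] at h1
        obtain ⟨⟨hj, he⟩, h2⟩ := h1
        cases hlk : look T (Seven.o.mul x.1 (nth Seven.o.one gi (x.2 % 8))) with
        | none => rw [hlk] at h2; simp at h2
        | some i =>
          rw [hlk] at h2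
          have h2' : Nat.ble (i / 8 + 1) (x.2 / 8) = true := h2
          rw [Nat.ble_eq] at h2'
          obtain ⟨hok, hmem⟩ := ih (_, i) (by dsimp only; omega) (hTl (look_mem T _ _ hlk))
          obtain ⟨og, mg⟩ := hgen _ hj
          exact mem_step (Nat.eq_of_beq_eq_true he) hok og hmem mg
      · rw [hz, cond_true] at h1
        exact mem_one (Nat.eq_of_beq_eq_true h1)
  have hl : ∀ x ∈ l, Seven.S.ok x.1 ∧ Seven.S.den x.1 ∈ mgrp W := fun x hx => key _ x (Nat.lt_succ_self _) hx
  have hlook : ∀ y, (look T y).isSome = true → ∃ x ∈ l, x.1 = y := fun y hy => by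
    obtain ⟨i, hi'⟩ := Option.isSome_iff_exists.1 hy
    exact ⟨(y, i), hTl (look_mem T _ _ hi'), rfl⟩
  let keys := l.map fun x => Seven.S.den x.1
  have hmul : ∀ a ∈ keys, ∀ p ∈ W, a * evalW (lett Seven.f) p ∈ keys := by
    intro a ha p hp
    obtain ⟨x, hx, rfl⟩ := List.mem_map.1 ha
    have h := hall x hx
    rw [entryOK, Bool.and_eq_true, lall_iff] at h
    have hy : Seven.evM p ∈ g := by rw [hg]; exact List.mem_map_of_mem hp
    obtain ⟨x', hx', e⟩ := hlook _ (h.2 _ hy)
    refine List.mem_map.2 ⟨x', hx', ?_⟩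
    rw [e, Seven.S.den_mul (hl x hx).1 (Seven.evM_ok p).1, (Seven.evM_ok p).2]
  have hmemiff : ∀ a, a ∈ mgrp W ↔ a ∈ keys := by
    intro a
    refine ⟨fun ha => ?_, fun ha => ?_⟩
    · rw [mgrp, ← Subgroup.mem_toSubmonoid, Subgroup.closure_toSubmonoid_of_finite] at ha
      induction ha using Submonoid.closure_induction_right with
      | one =>
        obtain ⟨x, hx, e⟩ := hlook _ hone
        exact List.mem_map.2 ⟨x, hx, by rw [e, Seven.S.den_one]⟩
      | mul_right x hx y hy ih =>
        obtain ⟨p, hp, rfl⟩ := hy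
        exact hmul x ih p hp
    · obtain ⟨x, hx, rfl⟩ := List.mem_map.1 ha
      exact (hl x hx).2
  obtain ⟨hnd, -⟩ := incr_sound l 0 hi
  have hknd : keys.Nodup := by
    rw [List.nodup_map_iff_inj_on (List.Nodup.of_map _ hnd)]
    intro x hx y hy e
    have e1 : x.1 = y.1 := Nat.eq_of_beq_eq_true ((Seven.S.eqv_iff (hl x hx).1 (hl y hy).1).2 e)
    exact List.inj_on_of_nodup_map hnd hx hy e1
  refine ⟨?_, ?_, hl, fun a ha => List.mem_map.1 ((hmemiff a).1 ha)⟩
  · rw [show Nat.card (mgrp W) = Nat.card {a // a ∈ keys.toFinset} from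
      Nat.card_congr (Equiv.subtypeEquivRight fun a => by rw [List.mem_toFinset]; exact hmemiff a),
      Nat.card_eq_finsetCard, List.toFinset_card_of_nodup hknd]
    exact List.length_map _
  · have hc : invols l = ((l.filter fun x => Seven.o.eqv (Seven.o.mul x.1 x.1) Seven.o.one &&
        !(Seven.o.eqv x.1 Seven.o.one)).map fun x => Seven.S.den x.1).length := by
      clear hi hall hl hlook hmul hmemiff hnd hknd key hTl hgen hone
      rw [List.length_map]
      induction l with
      | nil => rfl
      | cons a t ih =>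
        rw [List.filter_cons, invols]
        show cond _ (invols t + 1) (invols t) = _
        cases hb : (Seven.o.eqv (Seven.o.mul a.1 a.1) Seven.o.one && !(Seven.o.eqv a.1 Seven.o.one))
        · simpa using ih
        · simp [ih]
    rw [hc]
    refine le_trans (Nat.card_le_card_of_injective
      (fun k : {k : mgrp W // orderOf k = 2} => (⟨((k : mgrp W) : Seven.GL7), ?_⟩ :
        {a // a ∈ (((l.filter fun x => Seven.o.eqv (Seven.o.mul x.1 x.1) Seven.o.one &&
          !(Seven.o.eqv x.1 Seven.o.one)).map fun x => Seven.S.den x.1)).toFinset}))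
      fun a b h => Subtype.ext (Subtype.ext (congrArg Subtype.val h :))) ?_
    · obtain ⟨⟨a, ha⟩, hk⟩ := k
      obtain ⟨x, hx, rfl⟩ := List.mem_map.1 ((hmemiff a).1 ha)
      rw [← orderOf_injective (mgrp W).subtype (mgrp W).subtype_injective, Subgroup.coe_subtype] at hk
      simp only [List.mem_toFinset, List.mem_map, List.mem_filter, Bool.and_eq_true, Bool.not_eq_true']
      refine ⟨x, ⟨hx, (Seven.S.eqv_iff (Seven.S.ok_mul (hl x hx).1 (hl x hx).1) Seven.S.ok_one).2 ?_, ?_⟩, rfl⟩
      · rw [Seven.S.den_mul (hl x hx).1 (hl x hx).1, Seven.S.den_one, ← pow_two, ← hk, pow_orderOf_eq_one]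
      · by_contra h
        rw [Bool.not_eq_false] at h
        have h1 : Seven.S.den x.1 = 1 := ((Seven.S.eqv_iff (hl x hx).1 Seven.S.ok_one).1 h).trans Seven.S.den_one
        simp [h1] at hk
    · rw [Nat.card_eq_finsetCard]
      exact List.toFinset_card_le _

end Cfsg.Agent.H37.LyPerm
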