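import Cfsg.Agent.H37.LyPerm.Val
import Cfsg.Agent.H37.LyPerm.Data111

/-!
Carmichael generators of the centraliser of an involution of Ly, checked in the 111-dimensional representation.
-/

set_option autoImplicit false
set_option Elab.async false
set_option maxRecDepth 100000

namespace Cfsg.Agent.H37.LyPerm

open Cfsg.Agent.H27.LyRep Data111

/-- the involution -/
noncomputable def tI : Cfsg.Spor.Ly := elt [0,0,0,0]

theorem v_tI : Val tI mT := val_word _ (by decide +kernel)

theorem v_e0 : Val (elt [0]) mE0 := val_word _ (by decide +kernel)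

theorem v_f0 : Val (elt [1]) mF0 := val_word _ (by decide +kernel)

theorem v_e1 : Val (elt [2]) mE1 := val_word _ (by decide +kernel)

theorem v_f1 : Val (elt [3]) mF1 := val_word _ (by decide +kernel)

theorem v_e2 : Val (elt [6]) mE2 := val_word _ (by decide +kernel)

theorem v_f2 : Val (elt [7]) mF2 := val_word _ (by decide +kernel)

theorem v_e3 : Val (elt [8]) mE3 := val_word _ (by decide +kernel)

theorem v_f3 : Val (elt [9]) mF3 := val_word _ (by decide +kernel)

theorem v_e4 : Val (elt [8,2,2,5,5,4,2,4,8,4,2,2,1,1,1,1,3,3,5,9,5,3,5,4,4,3,3,9,0,0,0,0,8,2,2,5,5,4,2,4,8,4,2,2,1,1,1,1,3,3,5,9,5,3,5,4,4,3,3,9,0,0,0,0,8,2,2,5,5,4,2,4,8,4,2,2]) mE4 := val_word _ (by decide +kernel)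

theorem v_f4 : Val (elt [3,3,5,9,5,3,5,4,4,3,3,9,1,1,1,1,8,2,2,5,5,4,2,4,8,4,2,2,0,0,0,0,3,3,5,9,5,3,5,4,4,3,3,9,1,1,1,1,8,2,2,5,5,4,2,4,8,4,2,2,0,0,0,0,3,3,5,9,5,3,5,4,4,3,3,9]) mF4 := val_word _ (by decide +kernel)

/-- an element of order 42 -/
noncomputable def wE : Cfsg.Spor.Ly := elt [8,2,2,5,5,4,2,4,8,4,2,2,1,1,1,1,3,3,5,9,5,3,5,4,4,3,3,9,0,0,0,0,8,2,2,5,5,4,2,4,8,4,2,2,1,1,1,1,3,3,5,9,5,3,5,4,4,3,3,9,0,0,0,0,8,2,2,5,5,4,2,4,8,4,2,2] * elt [6] * elt [2]

theorem v_w : Val wE mW := val_mul (val_mul v_e4 v_e2 (C := mW2) (by decide +kernel)) v_e1 (by decide +kernel)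

theorem v_p1 : Val (wE ^ 1) mW := (pow_one wE).symm ▸ v_w

theorem v_p2 : Val (wE ^ 2) mP2 := by
  rw [show 2 = 1 + 1 from rfl, pow_add]
  exact val_mul v_p1 v_p1 (by decide +kernel)

theorem v_p4 : Val (wE ^ 4) mP4 := by
  rw [show 4 = 2 + 2 from rfl, pow_add]
  exact val_mul v_p2 v_p2 (by decide +kernel)

theorem v_p8 : Val (wE ^ 8) mP8 := by
  rw [show 8 = 4 + 4 from rfl, pow_add]
  exact val_mul v_p4 v_p4 (by decide +kernel)

theorem v_p12 : Val (wE ^ 12) mP12 := by
  rw [show 12 = 8 + 4 from rfl, pow_add]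
  exact val_mul v_p8 v_p4 (by decide +kernel)

theorem v_p14 : Val (wE ^ 14) mP14 := by
  rw [show 14 = 12 + 2 from rfl, pow_add]
  exact val_mul v_p12 v_p2 (by decide +kernel)

/-- three-cycle 0 -/
noncomputable def c0 : Cfsg.Spor.Ly := wE ^ 14

theorem v_c0 : Val c0 mP14 := v_p14

/-- three-cycle 1 -/
noncomputable def c1 : Cfsg.Spor.Ly := elt [1] * c0 * elt [0]

theorem v_c1 : Val c1 mC1 := val_mul (val_mul v_f0 v_c0 (C := mulF 111 mF0 mP14) (Nat.beq_refl _)) v_e0 (by decide +kernel)

/-- three-cycle 3 -/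
noncomputable def c3 : Cfsg.Spor.Ly := elt [9] * c0 * elt [8]

theorem v_c3 : Val c3 mC3 := val_mul (val_mul v_f3 v_c0 (C := mulF 111 mF3 mP14) (Nat.beq_refl _)) v_e3 (by decide +kernel)

/-- three-cycle 4 -/
noncomputable def c4 : Cfsg.Spor.Ly := elt [3,3,5,9,5,3,5,4,4,3,3,9,1,1,1,1,8,2,2,5,5,4,2,4,8,4,2,2,0,0,0,0,3,3,5,9,5,3,5,4,4,3,3,9,1,1,1,1,8,2,2,5,5,4,2,4,8,4,2,2,0,0,0,0,3,3,5,9,5,3,5,4,4,3,3,9] * c0 * elt [8,2,2,5,5,4,2,4,8,4,2,2,1,1,1,1,3,3,5,9,5,3,5,4,4,3,3,9,0,0,0,0,8,2,2,5,5,4,2,4,8,4,2,2,1,1,1,1,3,3,5,9,5,3,5,4,4,3,3,9,0,0,0,0,8,2,2,5,5,4,2,4,8,4,2,2]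

theorem v_c4 : Val c4 mC4 := val_mul (val_mul v_f4 v_c0 (C := mulF 111 mF4 mP14) (Nat.beq_refl _)) v_e4 (by decide +kernel)

/-- three-cycle 5 -/
noncomputable def c5 : Cfsg.Spor.Ly := elt [3] * c1 * elt [2]

theorem v_c5 : Val c5 mC5 := val_mul (val_mul v_f1 v_c1 (C := mulF 111 mF1 mC1) (Nat.beq_refl _)) v_e1 (by decide +kernel)

/-- three-cycle 13 -/
noncomputable def c13 : Cfsg.Spor.Ly := elt [7] * c3 * elt [6]

theorem v_c13 : Val c13 mC13 := val_mul (val_mul v_f2 v_c3 (C := mulF 111 mF2 mC3) (Nat.beq_refl _)) v_e2 (by decide +kernel)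

/-- three-cycle 17 -/
noncomputable def c17 : Cfsg.Spor.Ly := elt [3,3,5,9,5,3,5,4,4,3,3,9,1,1,1,1,8,2,2,5,5,4,2,4,8,4,2,2,0,0,0,0,3,3,5,9,5,3,5,4,4,3,3,9,1,1,1,1,8,2,2,5,5,4,2,4,8,4,2,2,0,0,0,0,3,3,5,9,5,3,5,4,4,3,3,9] * c5 * elt [8,2,2,5,5,4,2,4,8,4,2,2,1,1,1,1,3,3,5,9,5,3,5,4,4,3,3,9,0,0,0,0,8,2,2,5,5,4,2,4,8,4,2,2,1,1,1,1,3,3,5,9,5,3,5,4,4,3,3,9,0,0,0,0,8,2,2,5,5,4,2,4,8,4,2,2]

theorem v_c17 : Val c17 mC17 := val_mul (val_mul v_f4 v_c5 (C := mulF 111 mF4 mC5) (Nat.beq_refl _)) v_e4 (by decide +kernel)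

/-- three-cycle 32 -/
noncomputable def c32 : Cfsg.Spor.Ly := elt [3,3,5,9,5,3,5,4,4,3,3,9,1,1,1,1,8,2,2,5,5,4,2,4,8,4,2,2,0,0,0,0,3,3,5,9,5,3,5,4,4,3,3,9,1,1,1,1,8,2,2,5,5,4,2,4,8,4,2,2,0,0,0,0,3,3,5,9,5,3,5,4,4,3,3,9] * c13 * elt [8,2,2,5,5,4,2,4,8,4,2,2,1,1,1,1,3,3,5,9,5,3,5,4,4,3,3,9,0,0,0,0,8,2,2,5,5,4,2,4,8,4,2,2,1,1,1,1,3,3,5,9,5,3,5,4,4,3,3,9,0,0,0,0,8,2,2,5,5,4,2,4,8,4,2,2]

theorem v_c32 : Val c32 mC32 := val_mul (val_mul v_f4 v_c13 (C := mulF 111 mF4 mC13) (Nat.beq_refl _)) v_e4 (by decide +kernel)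

/-- three-cycle 36 -/
noncomputable def c36 : Cfsg.Spor.Ly := elt [3] * c17 * elt [2]

theorem v_c36 : Val c36 mC36 := val_mul (val_mul v_f1 v_c17 (C := mulF 111 mF1 mC17) (Nat.beq_refl _)) v_e1 (by decide +kernel)

/-- three-cycle 58 -/
noncomputable def c58 : Cfsg.Spor.Ly := elt [7] * c32 * elt [6]

theorem v_c58 : Val c58 mC58 := val_mul (val_mul v_f2 v_c32 (C := mulF 111 mF2 mC32) (Nat.beq_refl _)) v_e2 (by decide +kernel)

/-- three-cycle 59 -/
noncomputable def c59 : Cfsg.Spor.Ly := elt [9] * c32 * elt [8]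

theorem v_c59 : Val c59 mC59 := val_mul (val_mul v_f3 v_c32 (C := mulF 111 mF3 mC32) (Nat.beq_refl _)) v_e3 (by decide +kernel)

/-- three-cycle 63 -/
noncomputable def c63 : Cfsg.Spor.Ly := elt [3] * c36 * elt [2]

theorem v_c63 : Val c63 mC63 := val_mul (val_mul v_f1 v_c36 (C := mulF 111 mF1 mC36) (Nat.beq_refl _)) v_e1 (by decide +kernel)

/-- three-cycle 98 -/
noncomputable def c98 : Cfsg.Spor.Ly := elt [9] * c58 * elt [8]

theorem v_c98 : Val c98 mC98 := val_mul (val_mul v_f3 v_c58 (C := mulF 111 mF3 mC58) (Nat.beq_refl _)) v_e3 (by decide +kernel)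

theorem comm0 (hinj : Function.Injective rho) : c0 * tI = tI * c0 :=
  eq_of_chk hinj (val_mul' v_c0 v_tI) (val_mul' v_tI v_c0) (by decide +kernel)

theorem cube0 (hinj : Function.Injective rho) : c0 ^ 3 = 1 := by
  rw [pow_succ, pow_two]
  exact eq_of_chk hinj (val_mul' (val_mul' v_c0 v_c0) v_c0) val_one (by decide +kernel)

theorem comm1 (hinj : Function.Injective rho) : c3 * tI = tI * c3 :=
  eq_of_chk hinj (val_mul' v_c3 v_tI) (val_mul' v_tI v_c3) (by decide +kernel)

theorem cube1 (hinj : Function.Injective rho) : c3 ^ 3 = 1 := by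
  rw [pow_succ, pow_two]
  exact eq_of_chk hinj (val_mul' (val_mul' v_c3 v_c3) v_c3) val_one (by decide +kernel)

theorem comm2 (hinj : Function.Injective rho) : c4 * tI = tI * c4 :=
  eq_of_chk hinj (val_mul' v_c4 v_tI) (val_mul' v_tI v_c4) (by decide +kernel)

theorem cube2 (hinj : Function.Injective rho) : c4 ^ 3 = 1 := by
  rw [pow_succ, pow_two]
  exact eq_of_chk hinj (val_mul' (val_mul' v_c4 v_c4) v_c4) val_one (by decide +kernel)

theorem comm3 (hinj : Function.Injective rho) : c13 * tI = tI * c13 :=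
  eq_of_chk hinj (val_mul' v_c13 v_tI) (val_mul' v_tI v_c13) (by decide +kernel)

theorem cube3 (hinj : Function.Injective rho) : c13 ^ 3 = 1 := by
  rw [pow_succ, pow_two]
  exact eq_of_chk hinj (val_mul' (val_mul' v_c13 v_c13) v_c13) val_one (by decide +kernel)

theorem comm4 (hinj : Function.Injective rho) : c32 * tI = tI * c32 :=
  eq_of_chk hinj (val_mul' v_c32 v_tI) (val_mul' v_tI v_c32) (by decide +kernel)

theorem cube4 (hinj : Function.Injective rho) : c32 ^ 3 = 1 := by
  rw [pow_succ, pow_two]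
  exact eq_of_chk hinj (val_mul' (val_mul' v_c32 v_c32) v_c32) val_one (by decide +kernel)

theorem comm5 (hinj : Function.Injective rho) : c58 * tI = tI * c58 :=
  eq_of_chk hinj (val_mul' v_c58 v_tI) (val_mul' v_tI v_c58) (by decide +kernel)

theorem cube5 (hinj : Function.Injective rho) : c58 ^ 3 = 1 := by
  rw [pow_succ, pow_two]
  exact eq_of_chk hinj (val_mul' (val_mul' v_c58 v_c58) v_c58) val_one (by decide +kernel)

theorem comm6 (hinj : Function.Injective rho) : c59 * tI = tI * c59 :=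
  eq_of_chk hinj (val_mul' v_c59 v_tI) (val_mul' v_tI v_c59) (by decide +kernel)

theorem cube6 (hinj : Function.Injective rho) : c59 ^ 3 = 1 := by
  rw [pow_succ, pow_two]
  exact eq_of_chk hinj (val_mul' (val_mul' v_c59 v_c59) v_c59) val_one (by decide +kernel)

theorem comm7 (hinj : Function.Injective rho) : c63 * tI = tI * c63 :=
  eq_of_chk hinj (val_mul' v_c63 v_tI) (val_mul' v_tI v_c63) (by decide +kernel)

theorem cube7 (hinj : Function.Injective rho) : c63 ^ 3 = 1 := by
  rw [pow_succ, pow_two]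
  exact eq_of_chk hinj (val_mul' (val_mul' v_c63 v_c63) v_c63) val_one (by decide +kernel)

theorem comm8 (hinj : Function.Injective rho) : c98 * tI = tI * c98 :=
  eq_of_chk hinj (val_mul' v_c98 v_tI) (val_mul' v_tI v_c98) (by decide +kernel)

theorem cube8 (hinj : Function.Injective rho) : c98 ^ 3 = 1 := by
  rw [pow_succ, pow_two]
  exact eq_of_chk hinj (val_mul' (val_mul' v_c98 v_c98) v_c98) val_one (by decide +kernel)

theorem pair01 (hinj : Function.Injective rho) : (c0 * c3) ^ 2 = tI := by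
  rw [pow_two]
  have h := val_mul' v_c0 v_c3
  exact eq_of_chk hinj (val_mul' h h) v_tI (by decide +kernel)

theorem pair02 (hinj : Function.Injective rho) : (c0 * c4) ^ 2 = tI := by
  rw [pow_two]
  have h := val_mul' v_c0 v_c4
  exact eq_of_chk hinj (val_mul' h h) v_tI (by decide +kernel)

theorem pair03 (hinj : Function.Injective rho) : (c0 * c13) ^ 2 = tI := by
  rw [pow_two]
  have h := val_mul' v_c0 v_c13
  exact eq_of_chk hinj (val_mul' h h) v_tI (by decide +kernel)

theorem pair04 (hinj : Function.Injective rho) : (c0 * c32) ^ 2 = tI := by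
  rw [pow_two]
  have h := val_mul' v_c0 v_c32
  exact eq_of_chk hinj (val_mul' h h) v_tI (by decide +kernel)

theorem pair05 (hinj : Function.Injective rho) : (c0 * c58) ^ 2 = tI := by
  rw [pow_two]
  have h := val_mul' v_c0 v_c58
  exact eq_of_chk hinj (val_mul' h h) v_tI (by decide +kernel)

theorem pair06 (hinj : Function.Injective rho) : (c0 * c59) ^ 2 = tI := by
  rw [pow_two]
  have h := val_mul' v_c0 v_c59
  exact eq_of_chk hinj (val_mul' h h) v_tI (by decide +kernel)

theorem pair07 (hinj : Function.Injective rho) : (c0 * c63) ^ 2 = tI := by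
  rw [pow_two]
  have h := val_mul' v_c0 v_c63
  exact eq_of_chk hinj (val_mul' h h) v_tI (by decide +kernel)

theorem pair08 (hinj : Function.Injective rho) : (c0 * c98) ^ 2 = tI := by
  rw [pow_two]
  have h := val_mul' v_c0 v_c98
  exact eq_of_chk hinj (val_mul' h h) v_tI (by decide +kernel)

theorem pair10 (hinj : Function.Injective rho) : (c3 * c0) ^ 2 = tI := by
  rw [pow_two]
  have h := val_mul' v_c3 v_c0
  exact eq_of_chk hinj (val_mul' h h) v_tI (by decide +kernel)

theorem pair12 (hinj : Function.Injective rho) : (c3 * c4) ^ 2 = tI := by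
  rw [pow_two]
  have h := val_mul' v_c3 v_c4
  exact eq_of_chk hinj (val_mul' h h) v_tI (by decide +kernel)

theorem pair13 (hinj : Function.Injective rho) : (c3 * c13) ^ 2 = tI := by
  rw [pow_two]
  have h := val_mul' v_c3 v_c13
  exact eq_of_chk hinj (val_mul' h h) v_tI (by decide +kernel)

theorem pair14 (hinj : Function.Injective rho) : (c3 * c32) ^ 2 = tI := by
  rw [pow_two]
  have h := val_mul' v_c3 v_c32
  exact eq_of_chk hinj (val_mul' h h) v_tI (by decide +kernel)

theorem pair15 (hinj : Function.Injective rho) : (c3 * c58) ^ 2 = tI := by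
  rw [pow_two]
  have h := val_mul' v_c3 v_c58
  exact eq_of_chk hinj (val_mul' h h) v_tI (by decide +kernel)

theorem pair16 (hinj : Function.Injective rho) : (c3 * c59) ^ 2 = tI := by
  rw [pow_two]
  have h := val_mul' v_c3 v_c59
  exact eq_of_chk hinj (val_mul' h h) v_tI (by decide +kernel)

theorem pair17 (hinj : Function.Injective rho) : (c3 * c63) ^ 2 = tI := by
  rw [pow_two]
  have h := val_mul' v_c3 v_c63
  exact eq_of_chk hinj (val_mul' h h) v_tI (by decide +kernel)

theorem pair18 (hinj : Function.Injective rho) : (c3 * c98) ^ 2 = tI := by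
  rw [pow_two]
  have h := val_mul' v_c3 v_c98
  exact eq_of_chk hinj (val_mul' h h) v_tI (by decide +kernel)

theorem pair20 (hinj : Function.Injective rho) : (c4 * c0) ^ 2 = tI := by
  rw [pow_two]
  have h := val_mul' v_c4 v_c0
  exact eq_of_chk hinj (val_mul' h h) v_tI (by decide +kernel)

theorem pair21 (hinj : Function.Injective rho) : (c4 * c3) ^ 2 = tI := by
  rw [pow_two]
  have h := val_mul' v_c4 v_c3
  exact eq_of_chk hinj (val_mul' h h) v_tI (by decide +kernel)

theorem pair23 (hinj : Function.Injective rho) : (c4 * c13) ^ 2 = tI := by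
  rw [pow_two]
  have h := val_mul' v_c4 v_c13
  exact eq_of_chk hinj (val_mul' h h) v_tI (by decide +kernel)

theorem pair24 (hinj : Function.Injective rho) : (c4 * c32) ^ 2 = tI := by
  rw [pow_two]
  have h := val_mul' v_c4 v_c32
  exact eq_of_chk hinj (val_mul' h h) v_tI (by decide +kernel)

theorem pair25 (hinj : Function.Injective rho) : (c4 * c58) ^ 2 = tI := by
  rw [pow_two]
  have h := val_mul' v_c4 v_c58
  exact eq_of_chk hinj (val_mul' h h) v_tI (by decide +kernel)

theorem pair26 (hinj : Function.Injective rho) : (c4 * c59) ^ 2 = tI := by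
  rw [pow_two]
  have h := val_mul' v_c4 v_c59
  exact eq_of_chk hinj (val_mul' h h) v_tI (by decide +kernel)

theorem pair27 (hinj : Function.Injective rho) : (c4 * c63) ^ 2 = tI := by
  rw [pow_two]
  have h := val_mul' v_c4 v_c63
  exact eq_of_chk hinj (val_mul' h h) v_tI (by decide +kernel)

theorem pair28 (hinj : Function.Injective rho) : (c4 * c98) ^ 2 = tI := by
  rw [pow_two]
  have h := val_mul' v_c4 v_c98
  exact eq_of_chk hinj (val_mul' h h) v_tI (by decide +kernel)

theorem pair30 (hinj : Function.Injective rho) : (c13 * c0) ^ 2 = tI := by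
  rw [pow_two]
  have h := val_mul' v_c13 v_c0
  exact eq_of_chk hinj (val_mul' h h) v_tI (by decide +kernel)

theorem pair31 (hinj : Function.Injective rho) : (c13 * c3) ^ 2 = tI := by
  rw [pow_two]
  have h := val_mul' v_c13 v_c3
  exact eq_of_chk hinj (val_mul' h h) v_tI (by decide +kernel)

theorem pair32 (hinj : Function.Injective rho) : (c13 * c4) ^ 2 = tI := by
  rw [pow_two]
  have h := val_mul' v_c13 v_c4
  exact eq_of_chk hinj (val_mul' h h) v_tI (by decide +kernel)

theorem pair34 (hinj : Function.Injective rho) : (c13 * c32) ^ 2 = tI := by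
  rw [pow_two]
  have h := val_mul' v_c13 v_c32
  exact eq_of_chk hinj (val_mul' h h) v_tI (by decide +kernel)

theorem pair35 (hinj : Function.Injective rho) : (c13 * c58) ^ 2 = tI := by
  rw [pow_two]
  have h := val_mul' v_c13 v_c58
  exact eq_of_chk hinj (val_mul' h h) v_tI (by decide +kernel)

theorem pair36 (hinj : Function.Injective rho) : (c13 * c59) ^ 2 = tI := by
  rw [pow_two]
  have h := val_mul' v_c13 v_c59
  exact eq_of_chk hinj (val_mul' h h) v_tI (by decide +kernel)

theorem pair37 (hinj : Function.Injective rho) : (c13 * c63) ^ 2 = tI := by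
  rw [pow_two]
  have h := val_mul' v_c13 v_c63
  exact eq_of_chk hinj (val_mul' h h) v_tI (by decide +kernel)

theorem pair38 (hinj : Function.Injective rho) : (c13 * c98) ^ 2 = tI := by
  rw [pow_two]
  have h := val_mul' v_c13 v_c98
  exact eq_of_chk hinj (val_mul' h h) v_tI (by decide +kernel)

theorem pair40 (hinj : Function.Injective rho) : (c32 * c0) ^ 2 = tI := by
  rw [pow_two]
  have h := val_mul' v_c32 v_c0
  exact eq_of_chk hinj (val_mul' h h) v_tI (by decide +kernel)

theorem pair41 (hinj : Function.Injective rho) : (c32 * c3) ^ 2 = tI := by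
  rw [pow_two]
  have h := val_mul' v_c32 v_c3
  exact eq_of_chk hinj (val_mul' h h) v_tI (by decide +kernel)

theorem pair42 (hinj : Function.Injective rho) : (c32 * c4) ^ 2 = tI := by
  rw [pow_two]
  have h := val_mul' v_c32 v_c4
  exact eq_of_chk hinj (val_mul' h h) v_tI (by decide +kernel)

theorem pair43 (hinj : Function.Injective rho) : (c32 * c13) ^ 2 = tI := by
  rw [pow_two]
  have h := val_mul' v_c32 v_c13
  exact eq_of_chk hinj (val_mul' h h) v_tI (by decide +kernel)

theorem pair45 (hinj : Function.Injective rho) : (c32 * c58) ^ 2 = tI := by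
  rw [pow_two]
  have h := val_mul' v_c32 v_c58
  exact eq_of_chk hinj (val_mul' h h) v_tI (by decide +kernel)

theorem pair46 (hinj : Function.Injective rho) : (c32 * c59) ^ 2 = tI := by
  rw [pow_two]
  have h := val_mul' v_c32 v_c59
  exact eq_of_chk hinj (val_mul' h h) v_tI (by decide +kernel)

theorem pair47 (hinj : Function.Injective rho) : (c32 * c63) ^ 2 = tI := by
  rw [pow_two]
  have h := val_mul' v_c32 v_c63
  exact eq_of_chk hinj (val_mul' h h) v_tI (by decide +kernel)

theorem pair48 (hinj : Function.Injective rho) : (c32 * c98) ^ 2 = tI := by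
  rw [pow_two]
  have h := val_mul' v_c32 v_c98
  exact eq_of_chk hinj (val_mul' h h) v_tI (by decide +kernel)

theorem pair50 (hinj : Function.Injective rho) : (c58 * c0) ^ 2 = tI := by
  rw [pow_two]
  have h := val_mul' v_c58 v_c0
  exact eq_of_chk hinj (val_mul' h h) v_tI (by decide +kernel)

theorem pair51 (hinj : Function.Injective rho) : (c58 * c3) ^ 2 = tI := by
  rw [pow_two]
  have h := val_mul' v_c58 v_c3
  exact eq_of_chk hinj (val_mul' h h) v_tI (by decide +kernel)

theorem pair52 (hinj : Function.Injective rho) : (c58 * c4) ^ 2 = tI := by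
  rw [pow_two]
  have h := val_mul' v_c58 v_c4
  exact eq_of_chk hinj (val_mul' h h) v_tI (by decide +kernel)

theorem pair53 (hinj : Function.Injective rho) : (c58 * c13) ^ 2 = tI := by
  rw [pow_two]
  have h := val_mul' v_c58 v_c13
  exact eq_of_chk hinj (val_mul' h h) v_tI (by decide +kernel)

theorem pair54 (hinj : Function.Injective rho) : (c58 * c32) ^ 2 = tI := by
  rw [pow_two]
  have h := val_mul' v_c58 v_c32
  exact eq_of_chk hinj (val_mul' h h) v_tI (by decide +kernel)

theorem pair56 (hinj : Function.Injective rho) : (c58 * c59) ^ 2 = tI := by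
  rw [pow_two]
  have h := val_mul' v_c58 v_c59
  exact eq_of_chk hinj (val_mul' h h) v_tI (by decide +kernel)

theorem pair57 (hinj : Function.Injective rho) : (c58 * c63) ^ 2 = tI := by
  rw [pow_two]
  have h := val_mul' v_c58 v_c63
  exact eq_of_chk hinj (val_mul' h h) v_tI (by decide +kernel)

theorem pair58 (hinj : Function.Injective rho) : (c58 * c98) ^ 2 = tI := by
  rw [pow_two]
  have h := val_mul' v_c58 v_c98
  exact eq_of_chk hinj (val_mul' h h) v_tI (by decide +kernel)

theorem pair60 (hinj : Function.Injective rho) : (c59 * c0) ^ 2 = tI := by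
  rw [pow_two]
  have h := val_mul' v_c59 v_c0
  exact eq_of_chk hinj (val_mul' h h) v_tI (by decide +kernel)

theorem pair61 (hinj : Function.Injective rho) : (c59 * c3) ^ 2 = tI := by
  rw [pow_two]
  have h := val_mul' v_c59 v_c3
  exact eq_of_chk hinj (val_mul' h h) v_tI (by decide +kernel)

theorem pair62 (hinj : Function.Injective rho) : (c59 * c4) ^ 2 = tI := by
  rw [pow_two]
  have h := val_mul' v_c59 v_c4
  exact eq_of_chk hinj (val_mul' h h) v_tI (by decide +kernel)

theorem pair63 (hinj : Function.Injective rho) : (c59 * c13) ^ 2 = tI := by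
  rw [pow_two]
  have h := val_mul' v_c59 v_c13
  exact eq_of_chk hinj (val_mul' h h) v_tI (by decide +kernel)

theorem pair64 (hinj : Function.Injective rho) : (c59 * c32) ^ 2 = tI := by
  rw [pow_two]
  have h := val_mul' v_c59 v_c32
  exact eq_of_chk hinj (val_mul' h h) v_tI (by decide +kernel)

theorem pair65 (hinj : Function.Injective rho) : (c59 * c58) ^ 2 = tI := by
  rw [pow_two]
  have h := val_mul' v_c59 v_c58
  exact eq_of_chk hinj (val_mul' h h) v_tI (by decide +kernel)

theorem pair67 (hinj : Function.Injective rho) : (c59 * c63) ^ 2 = tI := by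
  rw [pow_two]
  have h := val_mul' v_c59 v_c63
  exact eq_of_chk hinj (val_mul' h h) v_tI (by decide +kernel)

theorem pair68 (hinj : Function.Injective rho) : (c59 * c98) ^ 2 = tI := by
  rw [pow_two]
  have h := val_mul' v_c59 v_c98
  exact eq_of_chk hinj (val_mul' h h) v_tI (by decide +kernel)

theorem pair70 (hinj : Function.Injective rho) : (c63 * c0) ^ 2 = tI := by
  rw [pow_two]
  have h := val_mul' v_c63 v_c0
  exact eq_of_chk hinj (val_mul' h h) v_tI (by decide +kernel)

theorem pair71 (hinj : Function.Injective rho) : (c63 * c3) ^ 2 = tI := by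
  rw [pow_two]
  have h := val_mul' v_c63 v_c3
  exact eq_of_chk hinj (val_mul' h h) v_tI (by decide +kernel)

theorem pair72 (hinj : Function.Injective rho) : (c63 * c4) ^ 2 = tI := by
  rw [pow_two]
  have h := val_mul' v_c63 v_c4
  exact eq_of_chk hinj (val_mul' h h) v_tI (by decide +kernel)

theorem pair73 (hinj : Function.Injective rho) : (c63 * c13) ^ 2 = tI := by
  rw [pow_two]
  have h := val_mul' v_c63 v_c13
  exact eq_of_chk hinj (val_mul' h h) v_tI (by decide +kernel)

theorem pair74 (hinj : Function.Injective rho) : (c63 * c32) ^ 2 = tI := by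
  rw [pow_two]
  have h := val_mul' v_c63 v_c32
  exact eq_of_chk hinj (val_mul' h h) v_tI (by decide +kernel)

theorem pair75 (hinj : Function.Injective rho) : (c63 * c58) ^ 2 = tI := by
  rw [pow_two]
  have h := val_mul' v_c63 v_c58
  exact eq_of_chk hinj (val_mul' h h) v_tI (by decide +kernel)

theorem pair76 (hinj : Function.Injective rho) : (c63 * c59) ^ 2 = tI := by
  rw [pow_two]
  have h := val_mul' v_c63 v_c59
  exact eq_of_chk hinj (val_mul' h h) v_tI (by decide +kernel)

theorem pair78 (hinj : Function.Injective rho) : (c63 * c98) ^ 2 = tI := by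
  rw [pow_two]
  have h := val_mul' v_c63 v_c98
  exact eq_of_chk hinj (val_mul' h h) v_tI (by decide +kernel)

theorem pair80 (hinj : Function.Injective rho) : (c98 * c0) ^ 2 = tI := by
  rw [pow_two]
  have h := val_mul' v_c98 v_c0
  exact eq_of_chk hinj (val_mul' h h) v_tI (by decide +kernel)

theorem pair81 (hinj : Function.Injective rho) : (c98 * c3) ^ 2 = tI := by
  rw [pow_two]
  have h := val_mul' v_c98 v_c3
  exact eq_of_chk hinj (val_mul' h h) v_tI (by decide +kernel)

theorem pair82 (hinj : Function.Injective rho) : (c98 * c4) ^ 2 = tI := by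
  rw [pow_two]
  have h := val_mul' v_c98 v_c4
  exact eq_of_chk hinj (val_mul' h h) v_tI (by decide +kernel)

theorem pair83 (hinj : Function.Injective rho) : (c98 * c13) ^ 2 = tI := by
  rw [pow_two]
  have h := val_mul' v_c98 v_c13
  exact eq_of_chk hinj (val_mul' h h) v_tI (by decide +kernel)

theorem pair84 (hinj : Function.Injective rho) : (c98 * c32) ^ 2 = tI := by
  rw [pow_two]
  have h := val_mul' v_c98 v_c32
  exact eq_of_chk hinj (val_mul' h h) v_tI (by decide +kernel)

theorem pair85 (hinj : Function.Injective rho) : (c98 * c58) ^ 2 = tI := by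
  rw [pow_two]
  have h := val_mul' v_c98 v_c58
  exact eq_of_chk hinj (val_mul' h h) v_tI (by decide +kernel)

theorem pair86 (hinj : Function.Injective rho) : (c98 * c59) ^ 2 = tI := by
  rw [pow_two]
  have h := val_mul' v_c98 v_c59
  exact eq_of_chk hinj (val_mul' h h) v_tI (by decide +kernel)

theorem pair87 (hinj : Function.Injective rho) : (c98 * c63) ^ 2 = tI := by
  rw [pow_two]
  have h := val_mul' v_c98 v_c63
  exact eq_of_chk hinj (val_mul' h h) v_tI (by decide +kernel)

/-- a square root of the involution -/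
noncomputable def rI : Cfsg.Spor.Ly := elt [0,0]

theorem v_rI : Val rI mR := val_word _ (by decide +kernel)

theorem rI_sq (hinj : Function.Injective rho) : rI * rI = tI :=
  eq_of_val hinj (val_mul v_rI v_rI (by decide +kernel)) v_tI

theorem tI_sq (hinj : Function.Injective rho) : tI * tI = 1 :=
  eq_of_val hinj (val_mul v_tI v_tI (by decide +kernel)) val_one

theorem tI_ne : tI ≠ 1 := ne_of_val v_tI val_one (by decide +kernel)

theorem c0_ne : c0 ≠ 1 := ne_of_val v_c0 val_one (by decide +kernel)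

/-- the nine generators -/
noncomputable def cyc : Fin 9 → Cfsg.Spor.Ly := ![c0, c3, c4, c13, c32, c58, c59, c63, c98]

theorem cyc_comm (hinj : Function.Injective rho) : ∀ i, cyc i * tI = tI * cyc i := by
  intro i
  fin_cases i
  · exact comm0 hinj
  · exact comm1 hinj
  · exact comm2 hinj
  · exact comm3 hinj
  · exact comm4 hinj
  · exact comm5 hinj
  · exact comm6 hinj
  · exact comm7 hinj
  · exact comm8 hinj

theorem cyc_cube (hinj : Function.Injective rho) : ∀ i, cyc i ^ 3 = 1 := by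
  intro i
  fin_cases i
  · exact cube0 hinj
  · exact cube1 hinj
  · exact cube2 hinj
  · exact cube3 hinj
  · exact cube4 hinj
  · exact cube5 hinj
  · exact cube6 hinj
  · exact cube7 hinj
  · exact cube8 hinj

theorem cyc_pair (hinj : Function.Injective rho) : ∀ i j, i ≠ j →
    (cyc i * cyc j) ^ 2 = 1 ∨ (cyc i * cyc j) ^ 2 = tI := by
  intro i j hij
  fin_cases i <;> fin_cases j
  · exact absurd rfl hij
  · exact Or.inr (pair01 hinj)
  · exact Or.inr (pair02 hinj)
  · exact Or.inr (pair03 hinj)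
  · exact Or.inr (pair04 hinj)
  · exact Or.inr (pair05 hinj)
  · exact Or.inr (pair06 hinj)
  · exact Or.inr (pair07 hinj)
  · exact Or.inr (pair08 hinj)
  · exact Or.inr (pair10 hinj)
  · exact absurd rfl hij
  · exact Or.inr (pair12 hinj)
  · exact Or.inr (pair13 hinj)
  · exact Or.inr (pair14 hinj)
  · exact Or.inr (pair15 hinj)
  · exact Or.inr (pair16 hinj)
  · exact Or.inr (pair17 hinj)
  · exact Or.inr (pair18 hinj)
  · exact Or.inr (pair20 hinj)
  · exact Or.inr (pair21 hinj)
  · exact absurd rfl hij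
  · exact Or.inr (pair23 hinj)
  · exact Or.inr (pair24 hinj)
  · exact Or.inr (pair25 hinj)
  · exact Or.inr (pair26 hinj)
  · exact Or.inr (pair27 hinj)
  · exact Or.inr (pair28 hinj)
  · exact Or.inr (pair30 hinj)
  · exact Or.inr (pair31 hinj)
  · exact Or.inr (pair32 hinj)
  · exact absurd rfl hij
  · exact Or.inr (pair34 hinj)
  · exact Or.inr (pair35 hinj)
  · exact Or.inr (pair36 hinj)
  · exact Or.inr (pair37 hinj)
  · exact Or.inr (pair38 hinj)
  · exact Or.inr (pair40 hinj)
  · exact Or.inr (pair41 hinj)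
  · exact Or.inr (pair42 hinj)
  · exact Or.inr (pair43 hinj)
  · exact absurd rfl hij
  · exact Or.inr (pair45 hinj)
  · exact Or.inr (pair46 hinj)
  · exact Or.inr (pair47 hinj)
  · exact Or.inr (pair48 hinj)
  · exact Or.inr (pair50 hinj)
  · exact Or.inr (pair51 hinj)
  · exact Or.inr (pair52 hinj)
  · exact Or.inr (pair53 hinj)
  · exact Or.inr (pair54 hinj)
  · exact absurd rfl hij
  · exact Or.inr (pair56 hinj)
  · exact Or.inr (pair57 hinj)
  · exact Or.inr (pair58 hinj)
  · exact Or.inr (pair60 hinj)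
  · exact Or.inr (pair61 hinj)
  · exact Or.inr (pair62 hinj)
  · exact Or.inr (pair63 hinj)
  · exact Or.inr (pair64 hinj)
  · exact Or.inr (pair65 hinj)
  · exact absurd rfl hij
  · exact Or.inr (pair67 hinj)
  · exact Or.inr (pair68 hinj)
  · exact Or.inr (pair70 hinj)
  · exact Or.inr (pair71 hinj)
  · exact Or.inr (pair72 hinj)
  · exact Or.inr (pair73 hinj)
  · exact Or.inr (pair74 hinj)
  · exact Or.inr (pair75 hinj)
  · exact Or.inr (pair76 hinj)
  · exact absurd rfl hij
  · exact Or.inr (pair78 hinj)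
  · exact Or.inr (pair80 hinj)
  · exact Or.inr (pair81 hinj)
  · exact Or.inr (pair82 hinj)
  · exact Or.inr (pair83 hinj)
  · exact Or.inr (pair84 hinj)
  · exact Or.inr (pair85 hinj)
  · exact Or.inr (pair86 hinj)
  · exact Or.inr (pair87 hinj)
  · exact absurd rfl hij

end Cfsg.Agent.H37.LyPerm
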