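import Cfsg.Agent.H37.LyPerm.Double
import Cfsg.Agent.S4279
import Cfsg.Agent.S1059
import Cfsg.Agent.H38.Ree.Basic
import Cfsg.Prelude.Def_Sporadic
import Cfsg.Prelude.Def_Exceptional

/-!
The Lyons group as a transitive group of degree 8835156, given the group data.
-/

set_option autoImplicit false
set_option linter.style.haveILetI false

namespace Cfsg.Agent.H37.LyPerm

local instance : Fact (Nat.Prime 5) := ⟨by norm_num⟩

theorem exists_perm {G : Type} [Group G] [Finite G] {n : ℕ} [NeZero n] (hs : IsSimpleGroup G) (U : Subgroup G)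
    (hn : U.index = n) (hU : 1 < n) :
    ∃ H : Subgroup (Equiv.Perm (Fin n)), ∃ _e : G ≃* H, MulAction.IsPretransitive H (Fin n) ∧
      Nonempty (U ≃* MulAction.stabilizer H (0 : Fin n)) := by
  classical
  have hcard : Nat.card (G ⧸ U) = n := by rw [← hn, Subgroup.index]
  let E₀ : G ⧸ U ≃ Fin n := Finite.equivFinOfCardEq hcard
  let E : G ⧸ U ≃ Fin n := E₀.trans (Equiv.swap (E₀ ((1 : G) : G ⧸ U)) 0)
  have hE : E ((1 : G) : G ⧸ U) = 0 := Equiv.swap_apply_left _ _
  let ρ : G →* Equiv.Perm (Fin n) := E.permCongrHom.toMonoidHom.comp (MulAction.toPermHom G (G ⧸ U))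
  have hρ : ∀ (g : G) (i : Fin n), ρ g i = E (g • E.symm i) := fun g i => rfl
  have hmem : ∀ g : G, ρ g 0 = 0 ↔ g ∈ U := fun g => by
    rw [hρ, ← hE, Equiv.symm_apply_apply, E.injective.eq_iff, MulAction.Quotient.smul_coe, smul_eq_mul,
      mul_one, QuotientGroup.eq, mul_one, Subgroup.inv_mem_iff]
  have hinj : Function.Injective ρ := by
    rcases (MonoidHom.normal_ker ρ).eq_bot_or_eq_top with h | h
    · exact (MonoidHom.ker_eq_bot_iff ρ).1 h
    · exfalso
      have : U = ⊤ := eq_top_iff.2 fun g _ => (hmem g).1 (by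
        rw [MonoidHom.mem_ker.1 (show g ∈ ρ.ker by rw [h]; trivial)]; rfl)
      rw [this, Subgroup.index_top] at hn
      omega
  let e : G ≃* ρ.range := MonoidHom.ofInjective hinj
  have htr : MulAction.IsPretransitive ρ.range (Fin n) := ⟨fun i j => by
    obtain ⟨g, hg⟩ := MulAction.exists_smul_eq G (E.symm i) (E.symm j)
    refine ⟨e g, ?_⟩
    show ρ g i = j
    rw [hρ, hg, Equiv.apply_symm_apply]⟩
  refine ⟨ρ.range, e, htr, ?_⟩
  have hmap : U.map e.toMonoidHom = MulAction.stabilizer ρ.range (0 : Fin n) := by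
    ext h
    obtain ⟨g, rfl⟩ := e.surjective h
    rw [MulAction.mem_stabilizer_iff]
    show e g ∈ U.map e.toMonoidHom ↔ ρ g 0 = 0
    rw [hmem]
    exact Subgroup.mem_map_iff_mem e.injective
  exact ⟨(e.subgroupMap U).trans (MulEquiv.subgroupCongr hmap)⟩

/-- The conclusion of S0454. -/
theorem realisation {G : Type} [Group G] (hLy : Cfsg.IsLy G) (U : Subgroup G) (hidx : U.index = 8835156)
    (hU : Nonempty (U ≃* Cfsg.Lie.chevG2.group (ZMod 5))) {t : G} (ht : orderOf t = 2)
    (hcard : Nat.card (Subgroup.centralizer ({t} : Set G)) ≤ 39916800)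
    (x : Fin 9 → G) (hx : ∀ i, x i * t = t * x i) (h3 : ∀ i, x i ^ 3 = 1)
    (h2 : ∀ i j, i ≠ j → (x i * x j) ^ 2 = 1 ∨ (x i * x j) ^ 2 = t) (hne : x 0 ≠ 1)
    (r : G) (hr : r * r = t) :
    ∃ H : Subgroup (Equiv.Perm (Fin 8835156)), Cfsg.IsLy H ∧
      MulAction.IsPretransitive H (Fin 8835156) ∧
      Cfsg.IsG2 (MulAction.stabilizer H (0 : Fin 8835156)) ∧
      ∃ t : H, orderOf t = 2 ∧ Cfsg.IsNonsplitDoubleCover (Subgroup.centralizer ({t} : Set H))
        (alternatingGroup (Fin 11)) := by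
  haveI : Finite G := Nat.finite_of_card_ne_zero (by rw [hLy.2]; norm_num)
  obtain ⟨H, e, htr, ⟨es⟩⟩ := exists_perm (n := 8835156) hLy.1 U hidx (by norm_num)
  obtain ⟨eU⟩ := hU
  have hcH : Nat.card (Subgroup.centralizer ({e t} : Set H)) ≤ 39916800 := by
    refine le_trans (Nat.card_le_card_of_injective (fun c => (⟨e.symm (c : H),
      Subgroup.mem_centralizer_singleton_iff.mpr (e.injective (by
        simpa using Subgroup.mem_centralizer_singleton_iff.mp c.2))⟩ :
      Subgroup.centralizer ({t} : Set G))) fun a b h =>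
        Subtype.ext (e.symm.injective (congrArg Subtype.val h))) hcard
  refine ⟨H, ⟨e.isSimpleGroup_congr.mp hLy.1, (Nat.card_congr e.toEquiv).symm.trans hLy.2⟩, htr, ?_,
    e t, ?_, ?_⟩
  · have e2 := es.symm.trans eU
    refine ⟨e2.isSimpleGroup_congr.mpr (Cfsg.Agent.H38.Ree.G2_simple (by rw [ZMod.card]; norm_num)),
      5, (Nat.prime_iff.mp (by norm_num)).isPrimePow, by norm_num, ?_⟩
    rw [Nat.card_congr e2.toEquiv, Cfsg.Agent.S1059.result (ZMod.card 5)]
    ring
  · rw [MulEquiv.orderOf_eq, ht]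
  · exact double_alt (by rw [MulEquiv.orderOf_eq, ht]) hcH (fun i => e (x i))
      (fun i => by rw [← map_mul, hx, map_mul])
      (fun i => by rw [← map_pow, h3, map_one])
      (fun i j hij => (h2 i j hij).imp (fun h => by rw [← map_mul, ← map_pow, h, map_one])
        (fun h => by rw [← map_mul, ← map_pow, h]))
      (fun h => hne (e.injective (by rw [map_one]; exact h)))
      (e r) (by rw [← map_mul, hr])

end Cfsg.Agent.H37.LyPerm
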