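import Cfsg.Agent.H37.LyPerm.Stab

/-!
Kernel checks: generators of the stabilisers fix the subspace.
-/

set_option autoImplicit false
set_option Elab.async false
set_option maxRecDepth 100000

namespace Cfsg.Agent.H37.LyPerm

open Cfsg.Agent.H27.LyRep (evM)

theorem lowPee4 : lowOK (evM [8,4,1,2,6,4,3,6,4,7,1,5,1,3,3,0,4,7,1,5,0,3,7,0,0,4,6,0,6,2,6,5,7,7,3,7,1,7,2,2,7,0,7,4,4,0,0,4,0,4,4,4,1,2,6,4,3,6,4,7,1,5,1,3,3,0,4,7,1,5,0,3,7,0,0,4,6,0,6,2,6,5,7,7,3,7,1,7,2,2,7,0,7,4,4,0,0,4,0,4,4,9]) = true := by decide +kernel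

theorem lowPee3 : lowOK (evM [8,6,3,6,3,4,1,4,0,2,0,7,7,4,1,4,4,2,7,3,0,3,1,3,7,0,4,1,3,5,6,3,6,3,4,1,4,0,2,0,7,7,4,1,4,4,2,7,3,0,3,1,3,7,0,4,1,3,5,6,3,6,3,4,1,4,0,2,0,7,7,4,1,4,4,2,7,3,0,3,1,3,7,0,4,1,3,5,9]) = true := by decide +kernel

theorem lowPee2 : lowOK (evM [8,4,7,1,7,4,7,2,1,1,3,0,2,6,0,3,7,7,1,3,1,5,3,4,1,1,5,0,5,6,6,1,1,2,2,2,1,6,1,7,0,5,0,7,1,7,4,7,2,1,1,3,0,2,6,0,3,7,7,1,3,1,5,3,4,1,1,5,0,5,6,6,1,1,2,2,2,1,6,1,7,0,5,0,5,9]) = true := by decide +kernel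

theorem lowPee1 : lowOK (evM [8,5,7,7,3,7,1,7,2,2,7,0,7,4,4,0,0,4,0,4,4,5,7,7,3,7,1,7,2,2,7,0,7,4,4,0,0,4,0,4,4,5,7,7,3,7,1,7,2,2,7,0,7,4,4,0,0,4,0,4,4,5,7,7,3,7,1,7,2,2,7,0,7,4,4,0,0,4,0,4,4,9]) = true := by decide +kernel

end Cfsg.Agent.H37.LyPerm
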