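import Mathlib

/-!
Involutions of the complement of order 96 (generated data).
-/

set_option autoImplicit false

namespace Cfsg.Agent.H37.LyPerm.Data

/-- the involutions -/
def ilEll : List ℕ := [0x100000000000104000008408040040010081061020104040040000004000020000000040000000000c101, 0x1000000200000840608201040400400040000800001020408000000040000000080018406080010010001, 0x200000040000083081008104040010004204080c002020418300000030000000020020104040040010182, 0x30000001000008206041830600001000c2040208083020000200000020000080020018104000040004182, 0x4000000000001010800182060c00400080810804104040c08100000010000100000020400080000004101, 0x4000000000001840200182021000100080000000204061010000000040000200000008100100000008001, 0x400000030000001000c002000000400080000800204000018000000010000200080000406040010000001]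

/-- inverses of the generators of the complement -/
def WEllInv : List (List ℕ) := [
  [4,0,0,15,3,0,15,0,5,0,5,1,2,2,14,14,4,1,3,5],
  [4,2,0,5,1,14,2,0,2,1,2,14,3,5,5,0,5,0,0,0,15,3,0,3,15,3,1,1,14,2,15,2,2,15,1,15,2,0,5,1,14,2,0,2,1,2,14,3,5,5,0,5,0,0,0,15,3,0,3,15,3,1,1,14,2,15,2,2,15,1,15,2,0,5,1,14,2,0,2,1,2,14,3,5,5,0,5,14,14,1,3,1,5,0,5,2,15,2,15,4,2,0,5,1,14,2,0,2,1,2,14,3,5,5,0,5,14,14,1,3,1,5,0,5,2,15,2,15,4,2,0,5,1,14,2,0,2,1,2,14,3,5,5,0,5,14,14,1,3,1,5,0,5,2,15,2,15,5,5,1,5,1,1,5,5,14,1,14,3,3,14,0,14,2,14,14,4,15,3,15,1,15,5,1,1,14,2,1,4,0,14,5,1,2,2,0,4,0,14,5,15,2,5,15,3,0,5,5,5,1,5,1,1,5,5,14,1,14,3,3,14,0,14,2,14,14,4,15,3,15,1,15,5,1,1,14,2,1,4,0,14,5,1,2,2,0,4,0,14,5,15,2,5,15,3,0,5,5,5,1,5,1,1,5,5,14,1,14,3,3,14,0,14,2,14,14,5,1,5,1,1,5,5,14,1,14,3,3,14,0,14,2,14,14,5,1,5,1,1,5,5,14,1,14,3,3,14,0,14,2,14,14,5,1,5,1,1,5,5,14,1,14,3,3,14,0,14,2,14,14,4,4,2,0,5,1,14,2,0,2,1,2,14,3,5,5,0,5,0,0,0,15,3,0,3,15,3,1,1,14,2,15,2,2,15,1,15,2,0,5,1,14,2,0,2,1,2,14,3,5,5,0,5,0,0,0,15,3,0,3,15,3,1,1,14,2,15,2,2,15,1,15,5,2,5,0,5,2,0,5,14,2,2,0,0,2,0,0,2,1,3,0,2,2,5,5,5,5,5,3,14,3,14,1,1,14,4,4,3,1,1,2,5,5,0,15,15,1,15,2,1,2,14,5,2,2,14,2,1,2,1,3,14,2,5,0,3,0,5]]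

end Cfsg.Agent.H37.LyPerm.Data
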