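import Cfsg.Agent.H37.LyPerm.Parabolic
import Cfsg.Agent.H37.LyPerm.DataPee
import Cfsg.Agent.H37.LyPerm.ParData

/-!
Kernel counts of involutions in cosets of the normal subgroup.
-/

set_option autoImplicit false
set_option Elab.async false
set_option maxRecDepth 100000

namespace Cfsg.Agent.H37.LyPerm

open Data

theorem pc5 : Nat.ble (pcount (ilEll.getD 5 0) LPee) 625 = true := by decide +kernel

theorem pc6 : Nat.ble (pcount (ilEll.getD 6 0) LPee) 125 = true := by decide +kernel

end Cfsg.Agent.H37.LyPerm
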