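import Cfsg.Agent.H37.LyPerm.CheckPee
import Cfsg.Agent.H37.LyPerm.CheckEll
import Cfsg.Agent.H37.LyPerm.ParPart0
import Cfsg.Agent.H37.LyPerm.ParPart1
import Cfsg.Agent.H37.LyPerm.ParPart2

/-!
Order and involutions of the parabolic stabiliser.
-/

set_option autoImplicit false
set_option Elab.async false
set_option maxRecDepth 100000

namespace Cfsg.Agent.H37.LyPerm

open Cfsg.Agent.Compute
open Cfsg.Agent.H27.LyG2
open Cfsg.Agent.H45 (evalW)
open Data

theorem il_in : involIn ilEll LEll = true := by decide +kernel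

theorem il_ok : (ilEll.all fun u => (look (treeOf 7 LEll) u).isSome) = true := by decide +kernel

theorem norm_ok : normOK (treeOf 12 LPee) gPee (List.zip WEll WEllInv) = true := by decide +kernel

theorem zip_fst : (List.zip WEll WEllInv).map Prod.fst = WEll := by decide +kernel

attribute [local irreducible] Seven.S mulMat oneMat

theorem mgrp_append (V W : List (List ℕ)) : mgrp (V ++ W) = mgrp V ⊔ mgrp W := by
  rw [mgrp, mgrp, mgrp, ← Subgroup.closure_union]
  congr 1
  ext x
  simp only [List.mem_append, Set.mem_union, Set.mem_ofPred_eq, or_and_right, exists_or]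

theorem mem_of_look {d : ℕ} {l : List (ℕ × ℕ)} {u : ℕ} (h : (look (treeOf d l) u).isSome = true) :
    ∃ x ∈ l, x.1 = u := by
  obtain ⟨i, hi⟩ := Option.isSome_iff_exists.1 h
  exact ⟨(u, i), build_subset d l _ l (List.Subset.refl _) (fun t _ ht _ => ht) (look_mem _ _ _ hi), rfl⟩

theorem ok_of_look {d : ℕ} {l : List (ℕ × ℕ)} {il : List ℕ}
    (hok : ∀ x ∈ l, Seven.S.ok x.1) (h : (il.all fun u => (look (treeOf d l) u).isSome) = true) :
    ∀ u ∈ il, Seven.S.ok u := fun u hu => by
  obtain ⟨x, hx, rfl⟩ := mem_of_look (List.all_eq_true.mp h u hu)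
  exact hok x hx

theorem spec_par : 300000 ≤ Nat.card (mgrp (WPee ++ WEll)) ∧
    Nat.card {k : mgrp (WPee ++ WEll) // orderOf k = 2} ≤ 1375 := by
  rw [mgrp_append]
  obtain ⟨-, -, hokP, hallP⟩ := closure_spec gPee_eq onePee incrPee allPee
  obtain ⟨-, -, hokL, hallL⟩ := closure_spec gEll_eq oneEll incrEll allEll
  have hN := normalizes (W := WPee) (V := List.zip WEll WEllInv) gPee_eq hokP norm_ok
  rw [zip_fst] at hN
  have hoku : ∀ u ∈ ilEll, Seven.S.ok u := ok_of_look (fun x hx => (hokL x hx).1) il_ok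
  have h := semidirect (mgrp WPee) (mgrp WEll) hN (p := 3125) (q := 96) specPee.1 specEll.1
    (by norm_num) (by decide) ilEll ?_ [125, 125, 125, 125, 125, 625, 125] (by decide) ?_
  · exact ⟨h.1, h.2.trans (by decide)⟩
  · intro b hb hbb
    obtain ⟨x, hx, rfl⟩ := hallL b hb
    have h := (lall_iff _ _).1 il_in x hx
    have ok := (hokL x hx).1
    have e : Seven.o.eqv (Seven.o.mul x.1 x.1) Seven.o.one = true :=
      (Seven.S.eqv_iff (Seven.S.ok_mul ok ok) Seven.S.ok_one).2
        (by rw [Seven.S.den_mul ok ok, Seven.S.den_one, hbb])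
    rw [e, cond_true, Bool.or_eq_true] at h
    rcases h with h | h
    · exact Or.inl (((Seven.S.eqv_iff ok Seven.S.ok_one).1 h).trans Seven.S.den_one)
    · obtain ⟨u, hu, he⟩ := List.any_eq_true.1 h
      exact Or.inr ⟨u, hu, by rw [Nat.eq_of_beq_eq_true he]⟩
  · intro j hj
    have hu : Seven.S.ok (ilEll.getD j 0) := by
      rw [List.getD_eq_getElem _ _ hj]; exact hoku _ (List.getElem_mem hj)
    refine (pcount_bound (mgrp WPee) LPee hallP (fun x hx => (hokP x hx).1) _ hu).trans ?_
    have hj' : j < 7 := lt_of_lt_of_le hj (le_of_eq rfl)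
    interval_cases j
    · exact (Nat.le_of_ble_eq_true pc0).trans (by decide)
    · exact (Nat.le_of_ble_eq_true pc1).trans (by decide)
    · exact (Nat.le_of_ble_eq_true pc2).trans (by decide)
    · exact (Nat.le_of_ble_eq_true pc3).trans (by decide)
    · exact (Nat.le_of_ble_eq_true pc4).trans (by decide)
    · exact (Nat.le_of_ble_eq_true pc5).trans (by decide)
    · exact (Nat.le_of_ble_eq_true pc6).trans (by decide)

end Cfsg.Agent.H37.LyPerm
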