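import Cfsg.Agent.H37.LyPerm.Closure

/-!
Involutions of a semidirect product given by two certified lists.
-/

set_option autoImplicit false
set_option maxRecDepth 100000
set_option linter.style.haveILetI false

namespace Cfsg.Agent.H37.LyPerm

open Cfsg.Agent.Compute
open scoped Pointwise
open Cfsg.Agent.H27.LyG2
open Cfsg.Agent.H45 (evalW)

/-- the number of `x` in the list with `(x u) ^ 2 = 1` -/
noncomputable def pcount (u : ℕ) (l : List (ℕ × ℕ)) : ℕ :=
  List.rec 0 (fun x _ ih => cond (Seven.o.eqv (Seven.o.mul (Seven.o.mul x.1 u) (Seven.o.mul x.1 u)) Seven.o.one)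
    (ih + 1) ih) l

/-- involutions lie in the short list -/
noncomputable def involIn (il : List ℕ) (l : List (ℕ × ℕ)) : Bool :=
  lall l fun x => cond (Seven.o.eqv (Seven.o.mul x.1 x.1) Seven.o.one)
    (Seven.o.eqv x.1 Seven.o.one || il.any (Nat.beq x.1)) true

/-- the second group normalises the first -/
noncomputable def normOK (T : Tr) (gP : List ℕ) (W : List (List ℕ × List ℕ)) : Bool :=
  lall W fun p => Seven.o.eqv (Seven.o.mul (Seven.evM p.1) (Seven.evM p.2)) Seven.o.one &&
    lall gP fun y => (look T (Seven.o.mul (Seven.o.mul (Seven.evM p.2) y) (Seven.evM p.1))).isSome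

attribute [local irreducible] Seven.S mulMat oneMat

theorem normalizes {W : List (List ℕ)} {g : List ℕ} {l : List (ℕ × ℕ)} {d : ℕ}
    {V : List (List ℕ × List ℕ)}
    (hg : g = W.map Seven.evM) (hmem : ∀ x ∈ l, Seven.S.ok x.1 ∧ Seven.S.den x.1 ∈ mgrp W)
    (hn : normOK (treeOf d l) g V = true) :
    mgrp (V.map Prod.fst) ≤ Subgroup.normalizer (mgrp W : Set Seven.GL7) := by
  classical
  rw [mgrp, Subgroup.closure_le]
  rintro u ⟨w, hw, rfl⟩
  obtain ⟨p, hp, rfl⟩ := List.mem_map.1 hw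
  rw [normOK, lall_iff] at hn
  have h := hn p hp
  rw [Bool.and_eq_true, lall_iff] at h
  obtain ⟨h1, h2⟩ := h
  obtain ⟨o1, d1⟩ := Seven.evM_ok p.1
  obtain ⟨o2, d2⟩ := Seven.evM_ok p.2
  have hinv := (Seven.S.eqv_iff (Seven.S.ok_mul o1 o2) Seven.S.ok_one).1 h1
  rw [Seven.S.den_mul o1 o2, Seven.S.den_one, d1, d2] at hinv
  have hu : evalW (lett Seven.f) p.2 = (evalW (lett Seven.f) p.1)⁻¹ := eq_inv_of_mul_eq_one_right hinv
  set u := evalW (lett Seven.f) p.1
  have hTl : (treeOf d l).entries ⊆ l :=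
    build_subset d l _ l (List.Subset.refl _) fun t _ ht _ => ht
  have hle : (mgrp W).map (MulAut.conj u⁻¹).toMonoidHom ≤ mgrp W := by
    conv_lhs => rw [mgrp, MonoidHom.map_closure]
    rw [Subgroup.closure_le]
    rintro _ ⟨v, ⟨q, hq, rfl⟩, rfl⟩
    obtain ⟨oq, dq⟩ := Seven.evM_ok q
    have hy : Seven.evM q ∈ g := by rw [hg]; exact List.mem_map_of_mem hq
    obtain ⟨i, hi⟩ := Option.isSome_iff_exists.1 (h2 _ hy)
    obtain ⟨-, hm⟩ := hmem _ (hTl (look_mem _ _ _ hi))
    rw [Seven.S.den_mul (Seven.S.ok_mul o2 oq) o1, Seven.S.den_mul o2 oq, d1, d2, dq, hu] at hm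
    simpa [MulAut.conj_apply] using hm
  have heq : (mgrp W).map (MulAut.conj u⁻¹).toMonoidHom = mgrp W :=
    Subgroup.eq_of_le_of_card_ge hle (le_of_eq
      (Nat.card_congr ((mgrp W).equivMapOfInjective _ (MulAut.conj u⁻¹).injective).toEquiv))
  have hui : u⁻¹ ∈ Subgroup.normalizer (mgrp W : Set Seven.GL7) := by
    rw [Subgroup.mem_normalizer_iff]
    intro x
    conv_rhs => rw [← heq]
    rw [show u⁻¹ * x * u⁻¹⁻¹ = (MulAut.conj u⁻¹).toMonoidHom x from rfl]
    exact (Subgroup.mem_map_iff_mem (MulAut.conj u⁻¹).injective).symm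
  simpa using inv_mem hui

theorem pcount_bound (W : Subgroup Seven.GL7) (l : List (ℕ × ℕ))
    (hall : ∀ a ∈ W, ∃ x ∈ l, Seven.S.den x.1 = a) (hok : ∀ x ∈ l, Seven.S.ok x.1) (u : ℕ)
    (hu : Seven.S.ok u) :
    Nat.card {a : W // ((a : Seven.GL7) * Seven.S.den u) ^ 2 = 1} ≤ pcount u l := by
  classical
  let fl := l.filter fun x =>
    Seven.o.eqv (Seven.o.mul (Seven.o.mul x.1 u) (Seven.o.mul x.1 u)) Seven.o.one
  have hc : ∀ m : List (ℕ × ℕ), (m.filter fun x =>
      Seven.o.eqv (Seven.o.mul (Seven.o.mul x.1 u) (Seven.o.mul x.1 u)) Seven.o.one).length =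
      pcount u m := by
    intro m
    induction m with
    | nil => rfl
    | cons a t ih =>
      rw [List.filter_cons]
      show _ = cond _ (pcount u t + 1) (pcount u t)
      cases hb : Seven.o.eqv (Seven.o.mul (Seven.o.mul a.1 u) (Seven.o.mul a.1 u)) Seven.o.one
      · simpa using ih
      · simp [ih]
  rw [← hc l]
  refine le_trans (Nat.card_le_card_of_injective
    (fun a : {a : W // ((a : Seven.GL7) * Seven.S.den u) ^ 2 = 1} =>
      (⟨((a : W) : Seven.GL7), ?_⟩ : {b // b ∈ (fl.map fun x => Seven.S.den x.1).toFinset}))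
    fun a b h => Subtype.ext (Subtype.ext (congrArg Subtype.val h :))) ?_
  · obtain ⟨⟨a, ha⟩, h⟩ := a
    obtain ⟨x, hx, rfl⟩ := hall a ha
    rw [List.mem_toFinset, List.mem_map]
    refine ⟨x, List.mem_filter.2 ⟨hx, ?_⟩, rfl⟩
    have o1 := Seven.S.ok_mul (hok x hx) hu
    refine (Seven.S.eqv_iff (Seven.S.ok_mul o1 o1) Seven.S.ok_one).2 ?_
    rw [Seven.S.den_mul o1 o1, Seven.S.den_mul (hok x hx) hu, Seven.S.den_one, ← pow_two]
    exact h
  · rw [Nat.card_eq_finsetCard]
    exact (List.toFinset_card_le _).trans (le_of_eq (List.length_map _))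

/-- Order and involutions of `P L`. -/
theorem semidirect (P L : Subgroup Seven.GL7) (hLP : L ≤ Subgroup.normalizer (P : Set Seven.GL7))
    {p q : ℕ} (hP : Nat.card P = p) (hL : Nat.card L = q) (hpq : Nat.Coprime p q) (hp : Odd p)
    (il : List ℕ) (hil : ∀ b ∈ L, b * b = 1 → b = 1 ∨ ∃ u ∈ il, Seven.S.den u = b)
    (c : List ℕ) (hlen : c.length = il.length)
    (hc : ∀ j < il.length, Nat.card {a : P // ((a : Seven.GL7) * Seven.S.den (il.getD j 0)) ^ 2 = 1} ≤ c.getD j 0) :
    p * q ≤ Nat.card (P ⊔ L : Subgroup Seven.GL7) ∧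
      Nat.card {k : (P ⊔ L : Subgroup Seven.GL7) // orderOf k = 2} ≤ c.sum := by
  classical
  constructor
  · refine Nat.le_of_dvd Nat.card_pos (hpq.mul_dvd_of_dvd_of_dvd ?_ ?_)
    · rw [← hP]; exact Subgroup.card_dvd_of_le le_sup_left
    · rw [← hL]; exact Subgroup.card_dvd_of_le le_sup_right
  · have hdis : ∀ x ∈ P, x ∈ L → x = 1 := fun x hx hx' => by
      refine orderOf_eq_one_iff.1 (Nat.eq_one_of_dvd_coprimes hpq ?_ ?_)
      · rw [← hP]; exact P.orderOf_dvd_natCard hx
      · rw [← hL]; exact L.orderOf_dvd_natCard hx'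
    have hsplit : ∀ k : {k : (P ⊔ L : Subgroup Seven.GL7) // orderOf k = 2},
        ∃ j : Fin il.length, ∃ a : {a : P // ((a : Seven.GL7) * Seven.S.den (il.getD j.val 0)) ^ 2 = 1},
          ((a : P) : Seven.GL7) * Seven.S.den (il.getD j.val 0) = (k : Seven.GL7) := by
      rintro ⟨⟨k, hk⟩, ho⟩
      have hk' : k ∈ ((P : Set Seven.GL7) * (L : Set Seven.GL7)) := by
        rw [← Subgroup.coe_mul_of_right_le_normalizer_left P L hLP]; exact hk
      obtain ⟨a, ha, b, hb, rfl⟩ := hk'
      rw [← orderOf_injective (P ⊔ L).subtype (P ⊔ L).subtype_injective, Subgroup.coe_subtype] at ho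
      have h2 : a * b * (a * b) = 1 := by rw [← pow_two, ← ho, pow_orderOf_eq_one]
      have hconj : b * a * b⁻¹ ∈ P := (Subgroup.mem_normalizer_iff.1 (hLP hb) a).1 ha
      have hbb : b * b ∈ P := by
        have e : b * b = (a * (b * a * b⁻¹))⁻¹ := by
          rw [eq_inv_iff_mul_eq_one]
          have h3 : b * (a * b) = a⁻¹ := eq_inv_of_mul_eq_one_right (by rwa [mul_assoc] at h2)
          have h4 : (a * (b * a * b⁻¹)) * (b * b) = 1 := by
            rw [show a * (b * a * b⁻¹) * (b * b) = a * (b * (a * b)) by simp [mul_assoc], h3,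
              mul_inv_cancel]
          exact mul_eq_one_comm.1 h4
        rw [e]; exact P.inv_mem (P.mul_mem ha hconj)
      rcases hil b hb (hdis _ hbb (L.mul_mem hb hb)) with rfl | ⟨u, hu, rfl⟩
      · exfalso
        have : orderOf a ∣ p := hP ▸ P.orderOf_dvd_natCard ha
        have ho' : orderOf a = 2 := by simpa using ho
        rw [ho'] at this
        exact (Nat.not_even_iff_odd.2 hp) (even_iff_two_dvd.2 this)
      · obtain ⟨j, hj, rfl⟩ := List.getElem_of_mem hu
        refine ⟨⟨j, hj⟩, ⟨⟨a, ha⟩, ?_⟩, ?_⟩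
        · rw [List.getD_eq_getElem _ _ hj, pow_two]; exact h2
        · show a * Seven.S.den (il.getD j 0) = a * Seven.S.den il[j]
          rw [List.getD_eq_getElem _ _ hj]
    choose jf af hjaf using hsplit
    refine le_trans (Nat.card_le_card_of_injective
      (fun k => (⟨jf k, af k⟩ : Σ j : Fin il.length,
        {a : P // ((a : Seven.GL7) * Seven.S.den (il.getD j.val 0)) ^ 2 = 1})) fun k k' h => ?_) ?_
    · have e : ∀ (s t : Σ j : Fin il.length,
          {a : P // ((a : Seven.GL7) * Seven.S.den (il.getD j.val 0)) ^ 2 = 1}), s = t →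
          ((s.2 : P) : Seven.GL7) * Seven.S.den (il.getD s.1.val 0) =
            ((t.2 : P) : Seven.GL7) * Seven.S.den (il.getD t.1.val 0) := fun s t h => by rw [h]
      have := e _ _ h
      rw [hjaf, hjaf] at this
      exact Subtype.ext (Subtype.ext this)
    · rw [Nat.card_sigma]
      refine (Finset.sum_le_sum fun j _ => hc j.val j.2).trans ?_
      have e : c = List.ofFn fun j : Fin il.length => c.getD j.val 0 := by
        refine List.ext_getElem (by simp [hlen]) fun i h1 h2 => ?_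
        rw [List.getElem_ofFn, List.getD_eq_getElem _ _ h1]
      conv_rhs => rw [e]
      rw [List.sum_ofFn]

end Cfsg.Agent.H37.LyPerm
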