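import Cfsg.Agent.H37.LyPerm.Val
import Cfsg.Agent.H34.Ly.Main

/-!
The subgroup `⟨a, b, c, d⟩` of Ly as the stabiliser of a seven-dimensional subspace of the 111-dimensional module.
-/

set_option autoImplicit false
set_option maxRecDepth 100000
set_option linter.style.haveILetI false

namespace Cfsg.Agent.H37.LyPerm

open Cfsg.Agent.Compute
open Cfsg.Agent.H27.LyRep (GL111 rho fL f5 evM mat)
open Cfsg.Agent.H45 (evalW evalW_cons evalW_append)
open Cfsg.Spor

local instance : Fact (Nat.Prime 5) := ⟨by norm_num⟩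

/-- the last seven basis rows span an invariant subspace -/
def Low (A : GL111) : Prop :=
  ∀ i j : Fin 111, 104 ≤ i.val → j.val < 104 → (A : Matrix (Fin 111) (Fin 111) (ZMod 5)) i j = 0

theorem low_mul {A B : GL111} (hA : Low A) (hB : Low B) : Low (A * B) := by
  intro i j hi hj
  rw [Units.val_mul, Matrix.mul_apply]
  refine Finset.sum_eq_zero fun k _ => ?_
  rcases Nat.lt_or_ge k.val 104 with hk | hk
  · rw [hA i k hi hk, zero_mul]
  · rw [hB k j hk hj, mul_zero]

theorem low_one : Low 1 := by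
  intro i j hi hj
  rw [Units.val_one, Matrix.one_apply_ne (fun h => by subst h; omega)]

/-- stabiliser of the subspace -/
def Stab : Subgroup GL111 where
  carrier := {A | Low A}
  one_mem' := low_one
  mul_mem' := low_mul
  inv_mem' := by
    intro A hA
    have hp : ∀ n : ℕ, Low (A ^ n) := fun n => by
      induction n with
      | zero => rw [pow_zero]; exact low_one
      | succ n ih => rw [pow_succ]; exact low_mul ih hA
    show Low A⁻¹
    have e : A⁻¹ = A ^ (orderOf A - 1) := by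
      rw [inv_eq_iff_mul_eq_one, ← pow_succ', Nat.sub_add_cancel (orderOf_pos A), pow_orderOf_eq_one]
    rw [e]
    exact hp _

/-- the check on a packed matrix -/
noncomputable def lowOK (M : ℕ) : Bool :=
  allN 7 fun i => allN 104 fun j => Nat.beq (getP 12 M (Nat.add (Nat.mul (Nat.add 104 i) 111) j)) 0

theorem mem_stab {x : Cfsg.Spor.Ly} {M : ℕ} (hx : Val x M) (h : lowOK M = true) :
    x ∈ Stab.comap rho := by
  show Low (rho x)
  intro i j hi hj
  rw [hx.2, show (Cfsg.Agent.H27.LyRep.S.den M : Matrix (Fin 111) (Fin 111) (ZMod 5)) = toMat 12 111 5 M from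
    matDen_coe hx.1]
  simp only [lowOK, allN_iff, Nat.beq_eq] at h
  have := h (i.val - 104) (by omega) j.val hj
  rw [show Nat.add (Nat.mul (Nat.add 104 (i.val - 104)) 111) j.val = i.val * 111 + j.val by
    simp only [Nat.add_eq, Nat.mul_eq]; rw [Nat.add_sub_cancel' hi]] at this
  rw [toMat, this, Nat.cast_zero]

theorem not_mem_stab {x : Cfsg.Spor.Ly} {M : ℕ} (hx : Val x M) (h : lowOK M = false) :
    x ∉ Stab.comap rho := by
  intro hm
  have hl : Low (rho x) := hm
  have : lowOK M = true := by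
    simp only [lowOK, allN_iff, Nat.beq_eq]
    intro i hi j hj
    have e := hl ⟨104 + i, by omega⟩ ⟨j, by omega⟩ (Nat.le_add_right _ _) hj
    rw [hx.2, show (Cfsg.Agent.H27.LyRep.S.den M : Matrix (Fin 111) (Fin 111) (ZMod 5)) =
      toMat 12 111 5 M from matDen_coe hx.1, toMat, ZMod.natCast_eq_zero_iff] at e
    exact Nat.eq_zero_of_dvd_of_lt e (hx.1.1.1 _ (by simp only [Nat.add_eq, Nat.mul_eq]; omega))
  rw [h] at this
  exact Bool.noConfusion this

theorem elt_nil : elt [] = 1 := map_one _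

theorem elt_cons (l : ℕ) (w : List ℕ) : elt (l :: w) = FreeGroup.lift gen5 (fL l) * elt w := by
  rw [elt, evalW_cons, map_mul, elt]

theorem elt_append (u v : List ℕ) : elt (u ++ v) = elt u * elt v := by
  rw [elt, evalW_append, map_mul, elt, elt]

/-- inverse letter -/
def inv5 (l : ℕ) : ℕ := if l % 2 = 0 then l + 1 else l - 1

theorem fL_inv (l : ℕ) : fL (inv5 l) = (fL l)⁻¹ := by
  rcases Nat.lt_or_ge l 10 with h | h
  · interval_cases l <;> simp [fL, inv5, Nat.beq]
  · have h' : ¬ inv5 l < 10 := by unfold inv5; split <;> omega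
    rw [fL, fL, dif_neg h', dif_neg (by omega), inv_one]

theorem elt_inv (w : List ℕ) : elt ((w.map inv5).reverse) = (elt w)⁻¹ := by
  induction w with
  | nil => simp [elt_nil]
  | cons a t ih =>
    rw [List.map_cons, List.reverse_cons, elt_append, ih, elt_cons, elt_cons, elt_nil, mul_one,
      mul_inv_rev, fL_inv, map_inv]

open Cfsg.Agent.H27.LyG2 (H4)

/-- representatives of the double cosets, as words -/
def repW : List (List ℕ) := [[], [8], [8, 7, 8], [8, 7, 3, 8], [8, 7, 5, 7, 8]]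

theorem psi_eq : Cfsg.Agent.H34.Ly.psi = gen5 := by
  funext i
  fin_cases i <;> rfl

theorem gY_eq (i : ℕ) (hi : i < 5) : Cfsg.Agent.H34.Ly.gY i = elt (repW.getD i []) := by
  have he : Cfsg.Agent.H34.Ly.evY = FreeGroup.lift gen5 := by
    rw [← psi_eq]; rfl
  have hd : Cfsg.Agent.H34.Ly.rdata.defs = [(1, 2, [7]), (1, 3, [7, 5]), (1, 4, [7, 6, 7])] := rfl
  interval_cases i <;>
    simp [Cfsg.Agent.H34.Ly.gY, repW, elt, Cfsg.Agent.H34.Ly.baseY, hd, Cfsg.Agent.H34.Ly.Base.wg, he,
      Cfsg.Agent.H34.Ly.glY, Cfsg.Agent.H34.Ly.fl, fL, evalW, mul_assoc, Nat.beq]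

theorem H4_gen (i : Fin 5) (hi : i.val < 4) : gen5 i ∈ H4 := by
  rw [H4, MonoidHom.map_closure]
  refine Subgroup.subset_closure ⟨FreeGroup.of (![Ly.Gen.a, Ly.Gen.b, Ly.Gen.c, Ly.Gen.d, Ly.Gen.z] i), ?_, rfl⟩
  fin_cases i <;> simp_all

/-- every element lies in one of the five double cosets -/
theorem cover (x : Cfsg.Spor.Ly) :
    ∃ i < 5, ∃ h : H4, x⁻¹ * ((h : Cfsg.Spor.Ly) * (elt (repW.getD i []))⁻¹) ∈ H4 := by
  open Cfsg.Agent.H34.Ly in
  obtain ⟨i, hi, ⟨m, hm⟩, e⟩ := orbC_cover baseY gY rholdY.g0 5 (by norm_num) rdata.uI rholdY.vu.2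
    zinvY gensY hZY (x : Cfsg.Spor.Ly ⧸ H4)
  refine ⟨i, hi, ⟨(Cfsg.Agent.H34.Ly.baseY.Gam (m : Cfsg.Agent.H34.Ly.M7))⁻¹,
    H4.inv_mem (Cfsg.Agent.H34.Ly.baseY.Gam_mem hm)⟩, ?_⟩
  rw [← gY_eq i hi, ← mul_inv_rev]
  exact QuotientGroup.eq.mp e.symm

theorem low0 : lowOK (mat 0) = true := by decide +kernel
theorem low2 : lowOK (mat 2) = true := by decide +kernel
theorem low4 : lowOK (mat 4) = true := by decide +kernel
theorem low6 : lowOK (mat 6) = true := by decide +kernel
theorem rep1 : lowOK (evM [8]) = false := by decide +kernel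
theorem rep2 : lowOK (evM [8, 7, 8]) = false := by decide +kernel
theorem rep3 : lowOK (evM [8, 7, 3, 8]) = false := by decide +kernel
theorem rep4 : lowOK (evM [8, 7, 5, 7, 8]) = false := by decide +kernel

theorem H4_le_stab : H4 ≤ Stab.comap rho := by
  rw [H4, MonoidHom.map_closure, Subgroup.closure_le]
  rintro _ ⟨g, hg, rfl⟩
  have hv : ∀ i : Fin 5, Val (gen5 i) (mat (2 * i.val)) := fun i =>
    ⟨(Cfsg.Agent.H27.LyRep.mat_ok _).1, by rw [rho_gen5]; rfl⟩
  simp only [Set.mem_insert_iff, Set.mem_singleton_iff] at hg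
  rcases hg with rfl | rfl | rfl | rfl
  · exact mem_stab (hv 0) low0
  · exact mem_stab (hv 1) low2
  · exact mem_stab (hv 2) low4
  · exact mem_stab (hv 3) low6

theorem stab_le (x : Cfsg.Spor.Ly) (hx : x ∈ Stab.comap rho) : x ∈ H4 := by
  obtain ⟨i, hi, h, hh⟩ := cover x
  rcases Nat.eq_zero_or_pos i with rfl | h0
  · simp only [repW, List.getD_cons_zero, elt_nil, inv_one, mul_one] at hh
    simpa using H4.mul_mem h.2 (H4.inv_mem hh)
  · exfalso
    have hg : elt (repW.getD i []) ∈ Stab.comap rho := by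
      have h1 := (Stab.comap rho).mul_mem ((Stab.comap rho).inv_mem (H4_le_stab hh))
        ((Stab.comap rho).mul_mem ((Stab.comap rho).inv_mem hx) (H4_le_stab h.2))
      simpa [mul_assoc] using h1
    have hw : Val (elt (repW.getD i [])) (evM (repW.getD i [])) := val_word _ (Nat.beq_refl _)
    refine not_mem_stab hw ?_ hg
    interval_cases i
    exacts [rep1, rep2, rep3, rep4]

end Cfsg.Agent.H37.LyPerm
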