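import Cfsg.Agent.H37.LyPerm.Fixed
import Cfsg.Agent.H37.LyPerm.Glue
import Cfsg.Agent.H37.LyPerm.Cycles
import Cfsg.Agent.H37.LyPerm.Stab
import Cfsg.Agent.H37.LyPerm.Parabolic
import Cfsg.Agent.H37.LyPerm.CheckTwo
import Cfsg.Agent.H37.LyPerm.CheckThree
import Cfsg.Agent.H37.LyPerm.CheckFour
import Cfsg.Agent.H37.LyPerm.CheckPee
import Cfsg.Agent.H37.LyPerm.CheckEll
import Cfsg.Agent.H37.LyPerm.ParCheck
import Cfsg.Agent.H37.LyPerm.Low0
import Cfsg.Agent.H37.LyPerm.Low1
import Cfsg.Agent.H37.LyPerm.Low2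

/-!
The centraliser of the involution `a ^ 4` of the Lyons group has order at most `11!`.
-/

set_option autoImplicit false
set_option maxRecDepth 100000
set_option linter.style.haveILetI false

namespace Cfsg.Agent.H37.LyPerm

open Cfsg.Agent.Compute
open Cfsg.Agent.H27.LyG2 (K44 kgen toK toK_of H4 lett flY flY_holds range_flY Seven.f)
open Cfsg.Agent.H27.LyRep (rho fL evM)
open Cfsg.Agent.H45 (evalW evalW_cons)
open Cfsg.Agent.H27.LyG2 (map_evalW)
open Cfsg.Agent.H37.LyPerm.Data

local instance : Fact (Nat.Prime 5) := ⟨by norm_num⟩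

/-- the seven-dimensional representation of `K44` -/
noncomputable def psi7 : K44 →* Cfsg.Agent.H27.LyG2.Seven.GL7 := toK Cfsg.Agent.H27.LyG2.Seven.holds

theorem psi7_inj : Function.Injective psi7 := Cfsg.Agent.H27.LyG2.Seven.hom_injective

/-- the map into Ly -/
noncomputable def phiK : K44 →* Cfsg.Spor.Ly := toK flY_holds

theorem phiK_inj : Function.Injective phiK := by
  haveI := Cfsg.Agent.H27.LyG2.isSimple_K44
  rw [← MonoidHom.ker_eq_bot_iff]
  refine (Subgroup.Normal.eq_bot_or_eq_top inferInstance).resolve_right fun h =>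
    Cfsg.Agent.H27.LyRep.of_a_ne_one ?_
  have : kgen 0 ∈ phiK.ker := by rw [h]; trivial
  rw [MonoidHom.mem_ker, phiK, toK_of] at this
  exact this

/-- letters a, b, c, d and inverses -/
def tr (l : ℕ) : ℕ := if l = 14 then 6 else if l = 15 then 7 else l

/-- only those letters occur -/
def okW (w : List ℕ) : Bool := w.all fun l => decide (l ∈ [0, 1, 2, 3, 4, 5, 14, 15])

theorem phiK_word : ∀ w : List ℕ, okW w = true → phiK (evalW (lett kgen) w) = elt (w.map tr) := by
  intro w
  induction w with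
  | nil => intro _; simp [evalW, elt_nil]
  | cons l t ih =>
    intro h
    rw [okW, List.all_cons, Bool.and_eq_true, decide_eq_true_eq] at h
    obtain ⟨hl, ht⟩ := h
    rw [evalW_cons, map_mul, List.map_cons, elt_cons, ih ht]
    congr 1
    simp only [List.mem_cons, List.not_mem_nil, or_false] at hl
    rcases hl with rfl | rfl | rfl | rfl | rfl | rfl | rfl | rfl <;>
      simp [lett, tr, fL, phiK, toK_of, map_inv, gen5, Cfsg.Agent.H27.LyG2.lyOf, flY, Nat.beq]

theorem psi7_word (w : List ℕ) : psi7 (evalW (lett kgen) w) = evalW (lett Seven.f) w := by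
  rw [map_evalW]
  refine Cfsg.Agent.H27.LyG2.evalW_congr fun l _ => ?_
  simp [Cfsg.Agent.H27.LyG2.map_lett, psi7, toK_of]

/-- the word of a conjugate -/
def conjW (r w : List ℕ) : List ℕ := r ++ w.map tr ++ (r.map inv5).reverse

/-- the subgroup of `K44` with the given matrices -/
noncomputable def sub (W : List (List ℕ)) : Subgroup K44 := (mgrp W).comap psi7

theorem sub_spec (W : List (List ℕ)) :
    Nat.card (sub W) = Nat.card (mgrp W) ∧
      Nat.card {k : sub W // orderOf k = 2} ≤ Nat.card {k : mgrp W // orderOf k = 2} := by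
  have hle : mgrp W ≤ psi7.range := by
    rw [mgrp, Subgroup.closure_le]
    rintro _ ⟨w, -, rfl⟩
    exact ⟨_, psi7_word w⟩
  have hmap : (sub W).map psi7 = mgrp W := Subgroup.map_comap_eq_self hle
  let e : sub W ≃* mgrp W :=
    ((sub W).equivMapOfInjective psi7 psi7_inj).trans (MulEquiv.subgroupCongr hmap)
  refine ⟨Nat.card_congr e.toEquiv, le_of_eq (Nat.card_congr (e.toEquiv.subtypeEquiv fun k => ?_))⟩
  rw [MulEquiv.toEquiv_eq_coe, EquivLike.coe_coe, MulEquiv.orderOf_eq]

theorem sub_conj (_hinj : Function.Injective rho) (r : List ℕ) (W : List (List ℕ))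
    (hok : W.all okW = true) (hlow : ∀ w ∈ W, lowOK (evM (conjW r w)) = true) :
    ∀ k ∈ sub W, elt r * phiK k * (elt r)⁻¹ ∈ H4 := by
  let T : Subgroup K44 := H4.comap ((MulAut.conj (elt r)).toMonoidHom.comp phiK)
  have hT : mgrp W ≤ T.map psi7 := by
    rw [mgrp, Subgroup.closure_le]
    rintro _ ⟨w, hw, rfl⟩
    refine ⟨evalW (lett kgen) w, ?_, psi7_word w⟩
    show elt r * phiK (evalW (lett kgen) w) * (elt r)⁻¹ ∈ H4
    rw [phiK_word w (List.all_eq_true.mp hok w hw), ← elt_inv, ← elt_append, ← elt_append]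
    exact stab_le _ (mem_stab (val_word _ (Nat.beq_refl _)) (hlow w hw))
  intro k hk
  obtain ⟨k', hk', e⟩ := hT hk
  rw [← psi7_inj e]
  exact hk'

/-- the representatives -/
noncomputable def gR (i : Fin 5) : Cfsg.Spor.Ly := (elt (repW.getD i.val []))⁻¹

theorem low_two : ∀ w ∈ WTwo, lowOK (evM (conjW [8, 7, 8] w)) = true := by
  intro w hw
  simp only [WTwo, List.mem_cons, List.not_mem_nil, or_false] at hw
  rcases hw with rfl | rfl
  exacts [lowTwo0, lowTwo1]

theorem low_four : ∀ w ∈ WFour, lowOK (evM (conjW [8, 7, 3, 8] w)) = true := by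
  intro w hw
  simp only [WFour, List.mem_cons, List.not_mem_nil, or_false] at hw
  rcases hw with rfl | rfl
  exacts [lowFour0, lowFour1]

theorem low_three : ∀ w ∈ WThree, lowOK (evM (conjW [8, 7, 5, 7, 8] w)) = true := by
  intro w hw
  simp only [WThree, List.mem_cons, List.not_mem_nil, or_false] at hw
  rcases hw with rfl | rfl
  exacts [lowThree0, lowThree1]

theorem low_par : ∀ w ∈ WPee ++ WEll, lowOK (evM (conjW [8] w)) = true := by
  intro w hw
  simp only [WPee, WEll, List.mem_append, List.mem_cons, List.not_mem_nil, or_false] at hw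
  rcases hw with (rfl | rfl | rfl | rfl | rfl) | (rfl | rfl)
  exacts [lowPee0, lowPee1, lowPee2, lowPee3, lowPee4, lowEll0, lowEll1]

theorem ok_two : WTwo.all okW = true := by decide +kernel
theorem ok_three : WThree.all okW = true := by decide +kernel
theorem ok_four : WFour.all okW = true := by decide +kernel
theorem ok_par : (WPee ++ WEll).all okW = true := by decide +kernel

/-- the five stabilisers -/
noncomputable def KS : Fin 5 → Subgroup K44 :=
  ![⊤, sub (WPee ++ WEll), sub WTwo, sub WFour, sub WThree]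

theorem KS_conj (hinj : Function.Injective rho) (i : Fin 5) :
    ∀ k ∈ KS i, (gR i)⁻¹ * phiK k * gR i ∈ H4 := by
  intro k hk
  rw [gR, inv_inv]
  fin_cases i
  · simpa [repW, elt_nil] using (show phiK k ∈ H4 from range_flY.le ⟨k, rfl⟩)
  · exact sub_conj hinj _ _ ok_par low_par k hk
  · exact sub_conj hinj _ _ ok_two low_two k hk
  · exact sub_conj hinj _ _ ok_four low_four k hk
  · exact sub_conj hinj _ _ ok_three low_three k hk

theorem card_K44_eq : Nat.card K44 = 5859000000 := by
  obtain ⟨e⟩ := Cfsg.Agent.H27.LyG2.exists_equiv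
  rw [Nat.card_congr e.toEquiv, Cfsg.Agent.S1059.result (ZMod.card 5)]
  norm_num

theorem index_KS : ∀ i, (KS i).index * ![5859000000, 300000, 6048, 1008, 2880] i ≤ 5859000000 := by
  intro i
  have hc : ∀ (K : Subgroup K44) (n : ℕ), n ≤ Nat.card K → K.index * n ≤ 5859000000 := fun K n h =>
    (Nat.mul_le_mul_left _ h).trans (le_of_eq (K.index_mul_card.trans card_K44_eq))
  fin_cases i
  · exact hc _ _ (le_of_eq (Subgroup.card_top.trans card_K44_eq).symm)
  · exact hc _ _ ((sub_spec _).1.symm ▸ spec_par.1)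
  · exact hc _ _ (((sub_spec _).1.trans specTwo.1).ge)
  · exact hc _ _ (((sub_spec _).1.trans specFour.1).ge)
  · exact hc _ _ (((sub_spec _).1.trans specThree.1).ge)

theorem card_cent {A B : Type*} [Group A] [Group B] (e : A ≃* B) (t : A) :
    Nat.card (Subgroup.centralizer ({t} : Set A)) = Nat.card (Subgroup.centralizer ({e t} : Set B)) :=
  Nat.card_congr (e.toEquiv.subtypeEquiv fun k => by
    show k ∈ Subgroup.centralizer {t} ↔ e k ∈ Subgroup.centralizer {e t}
    rw [Subgroup.mem_centralizer_singleton_iff, Subgroup.mem_centralizer_singleton_iff, ← map_mul,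
      ← map_mul, e.injective.eq_iff])

theorem le_of_mul_lt {a n m b : ℕ} (h : a * n ≤ m) (hb : m < (b + 1) * n) : a ≤ b := by
  by_contra hc
  have := Nat.mul_le_mul_right n (show b + 1 ≤ a by omega)
  omega

theorem card_centralizer_t (hinj : Function.Injective rho) (hidx : H4.index = 8835156) [Finite Cfsg.Spor.Ly] :
    Nat.card (Subgroup.centralizer ({tI} : Set Cfsg.Spor.Ly)) ≤ 39916800 := by
  classical
  haveI : Finite K44 := Nat.finite_of_card_ne_zero (by rw [card_K44_eq]; norm_num)
  obtain ⟨eG⟩ := Cfsg.Agent.H27.LyG2.exists_equiv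
  let e : K44 ≃* H4 := (MonoidHom.ofInjective phiK_inj).trans (MulEquiv.subgroupCongr range_flY)
  have he : ∀ k, ((e k : H4) : Cfsg.Spor.Ly) = phiK k := fun k => rfl
  set t : K44 := evalW (lett kgen) [0, 0, 0, 0]
  have htI : phiK t = tI := by rw [phiK_word _ (by decide)]; rfl
  have ht2 : orderOf t = 2 := by
    rw [← orderOf_injective phiK phiK_inj, htI, orderOf_eq_prime_iff]
    exact ⟨by rw [pow_two]; exact tI_sq hinj, tI_ne⟩
  have hC : Nat.card (Subgroup.centralizer ({t} : Set K44)) = 14400 := by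
    have h := (Cfsg.Agent.S4279.result (F := ZMod 5) (by rw [ZMod.card]; decide) (eG t)
      (by rw [MulEquiv.orderOf_eq, ht2])).1
    rw [ZMod.card] at h
    rw [card_cent eG t, h]
    norm_num
  have hcard : ∀ K : Subgroup K44, (K.map e.toMonoidHom).index = K.index := fun K =>
    K.index_map_equiv e
  have hsum : ∑ i, ((KS i).map e.toMonoidHom).index ≤ H4.index := by
    simp only [hcard, Fin.sum_univ_five, hidx]
    have h0 : (KS 0).index ≤ 1 := le_of_mul_lt (index_KS 0) (show 5859000000 < (1 + 1) * 5859000000 by norm_num)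
    have h1 : (KS 1).index ≤ 19530 := le_of_mul_lt (index_KS 1) (show 5859000000 < (19530 + 1) * 300000 by norm_num)
    have h2 : (KS 2).index ≤ 968750 := le_of_mul_lt (index_KS 2) (show 5859000000 < (968750 + 1) * 6048 by norm_num)
    have h3 : (KS 3).index ≤ 5812500 := le_of_mul_lt (index_KS 3) (show 5859000000 < (5812500 + 1) * 1008 by norm_num)
    have h4 : (KS 4).index ≤ 2034375 := le_of_mul_lt (index_KS 4) (show 5859000000 < (2034375 + 1) * 2880 by norm_num)
    omega
  have hfix := card_fixedBy_eq H4 gR (fun i => (KS i).map e.toMonoidHom)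
    (fun i k hk => by
      obtain ⟨k', hk', rfl⟩ := hk
      exact KS_conj hinj i k' hk')
    (fun x => by
      obtain ⟨i, hi, h, hh⟩ := cover x
      exact ⟨⟨i, hi⟩, h, hh⟩) hsum (e t)
  have hCt : Nat.card (Subgroup.centralizer ({e t} : Set H4)) = 14400 := by
    rw [← hC, card_cent e t]
  have hbound : ∀ (K : Subgroup K44) (n j f : ℕ), n ≤ Nat.card K →
      Nat.card {k : K // orderOf k = 2} ≤ j → 14400 * j < (f + 1) * n →
      Nat.card (MulAction.fixedBy (H4 ⧸ K.map e.toMonoidHom) (e t)) ≤ f := by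
    intro K n j f hn hj hlt
    have h := card_fixedBy_mul_le (K.map e.toMonoidHom) (e t) (by rw [MulEquiv.orderOf_eq, ht2])
    let eK := K.equivMapOfInjective e.toMonoidHom e.injective
    have h1 : Nat.card (K.map e.toMonoidHom) = Nat.card K := (Nat.card_congr eK.toEquiv).symm
    have h2 : Nat.card {k : K.map e.toMonoidHom // orderOf k = 2} = Nat.card {k : K // orderOf k = 2} :=
      (Nat.card_congr (eK.toEquiv.subtypeEquiv fun k => by
        rw [MulEquiv.toEquiv_eq_coe, EquivLike.coe_coe, MulEquiv.orderOf_eq])).symm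
    rw [h1, h2, hCt] at h
    by_contra hf
    have : (f + 1) * n ≤ Nat.card (MulAction.fixedBy (H4 ⧸ K.map e.toMonoidHom) (e t)) * Nat.card K :=
      Nat.mul_le_mul (by omega) hn
    omega
  have f0 : Nat.card (MulAction.fixedBy (H4 ⧸ (KS 0).map e.toMonoidHom) (e t)) ≤ 1 := by
    refine le_trans (Nat.card_le_card_of_injective Subtype.val Subtype.val_injective) (le_of_eq ?_)
    show ((KS 0).map e.toMonoidHom).index = 1
    rw [hcard]; exact Subgroup.index_top
  have f1 := hbound (KS 1) 300000 1375 66 ((sub_spec _).1.symm ▸ spec_par.1)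
    ((sub_spec _).2.trans spec_par.2) (by norm_num)
  have f2 := hbound (KS 2) 6048 63 150 ((sub_spec _).1.trans specTwo.1).ge
    ((sub_spec _).2.trans specTwo.2) (by norm_num)
  have f3 := hbound (KS 3) 1008 105 1500 ((sub_spec _).1.trans specFour.1).ge
    ((sub_spec _).2.trans specFour.2) (by norm_num)
  have f4 := hbound (KS 4) 2880 211 1055 ((sub_spec _).1.trans specThree.1).ge
    ((sub_spec _).2.trans specThree.2) (by norm_num)
  have hC2 := card_centralizer_le H4 (e t)
  rw [he, htI, hCt] at hC2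
  refine hC2.trans ?_
  have hf : Nat.card (MulAction.fixedBy (Cfsg.Spor.Ly ⧸ H4) tI) ≤ 2772 := by
    rw [← htI, ← he, hfix, Fin.sum_univ_five]
    omega
  exact (Nat.mul_le_mul_left 14400 hf).trans (by norm_num)

/-- The conclusion of S0454, from the order data. -/
theorem conclusion (hLy : Cfsg.IsLy Cfsg.Spor.Ly) (hidx : H4.index = 8835156) :
    ∃ H : Subgroup (Equiv.Perm (Fin 8835156)), Cfsg.IsLy H ∧
      MulAction.IsPretransitive H (Fin 8835156) ∧
      Cfsg.IsG2 (MulAction.stabilizer H (0 : Fin 8835156)) ∧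
      ∃ t : H, orderOf t = 2 ∧ Cfsg.IsNonsplitDoubleCover (Subgroup.centralizer ({t} : Set H))
        (alternatingGroup (Fin 11)) := by
  haveI : Finite Cfsg.Spor.Ly := Nat.finite_of_card_ne_zero (by rw [hLy.2]; norm_num)
  have hinj : Function.Injective rho := by
    haveI := hLy.1
    rw [← MonoidHom.ker_eq_bot_iff]
    refine (Subgroup.Normal.eq_bot_or_eq_top inferInstance).resolve_right fun h => ?_
    have hz : rho (elt [8]) = 1 := by rw [← MonoidHom.mem_ker, h]; trivial
    refine not_mem_stab (val_word [8] (Nat.beq_refl _)) rep1 ?_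
    show rho (elt [8]) ∈ Stab
    rw [hz]
    exact Stab.one_mem
  exact realisation hLy H4 hidx (Cfsg.Agent.H27.LyG2.iso_of_ne_one Cfsg.Agent.H27.LyRep.of_a_ne_one)
    (orderOf_eq_prime_iff.mpr ⟨by rw [pow_two]; exact tI_sq hinj, tI_ne⟩)
    (card_centralizer_t hinj hidx) cyc (cyc_comm hinj) (cyc_cube hinj) (cyc_pair hinj) c0_ne rI (rI_sq hinj)

end Cfsg.Agent.H37.LyPerm
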