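import Cfsg.Agent.H99.AltCarmichael
import Cfsg.Prelude.Def_SporadicB
import Mathlib.GroupTheory.SpecificGroups.Alternating.Simple

/-!
An involution centraliser of order at most `11!` with Carmichael generators modulo the involution is the
non-split double cover of the alternating group of degree 11.
-/

set_option autoImplicit false
set_option linter.style.haveILetI false

namespace Cfsg.Agent.H37.LyPerm

open Cfsg.Agent.H99.BoundedPres

/-- the three-cycles `(0 1 i)` on eleven points -/
def z11 (i : Fin 9) : alternatingGroup (Fin 11) :=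
  (finSumFinEquiv : Fin 2 ⊕ Fin 9 ≃ Fin 11).altCongrHom (zA i)

/-- The quotient map of the centraliser onto the alternating group. -/
theorem exists_hom {G : Type} [Group G] {t : G} (ht : orderOf t = 2)
    [Finite (Subgroup.centralizer ({t} : Set G))]
    (hcard : Nat.card (Subgroup.centralizer ({t} : Set G)) ≤ 39916800)
    (x : Fin 9 → G) (hx : ∀ i, x i * t = t * x i) (h3 : ∀ i, x i ^ 3 = 1)
    (h2 : ∀ i j, i ≠ j → (x i * x j) ^ 2 = 1 ∨ (x i * x j) ^ 2 = t) (hne : x 0 ≠ 1) :
    ∃ f : Subgroup.centralizer ({t} : Set G) →* alternatingGroup (Fin 11), Function.Surjective f ∧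
      (∀ g, f g = 1 ↔ (g : G) = 1 ∨ (g : G) = t) ∧
      ∀ i (h : x i ∈ Subgroup.centralizer ({t} : Set G)), f ⟨x i, h⟩ = z11 i := by
  classical
  set C := Subgroup.centralizer ({t} : Set G) with hC
  have hmem : ∀ {g : G}, g * t = t * g → g ∈ C := fun {g} h =>
    Subgroup.mem_centralizer_singleton_iff.mpr h
  have ht2 : t * t = 1 := by rw [← pow_two, ← ht, pow_orderOf_eq_one]
  have ht1 : t ≠ 1 := fun h => by rw [h, orderOf_one] at ht; omega
  let T : C := ⟨t, hmem rfl⟩
  have hT : ∀ g : C, g * T = T * g := fun g =>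
    Subtype.ext (Subgroup.mem_centralizer_singleton_iff.mp g.2)
  set Z := Subgroup.zpowers T with hZ
  have hZc : Z ≤ Subgroup.center C := (Subgroup.zpowers_le (H := Subgroup.center C)).mpr
    (Subgroup.mem_center_iff.mpr hT)
  have hTord : orderOf T = 2 := by rw [← ht, ← orderOf_injective C.subtype C.subtype_injective T]; rfl
  have hZcard : Nat.card Z = 2 := by rw [hZ, Nat.card_zpowers, hTord]
  have hZ2 : ∀ g ∈ Z, g = 1 ∨ g = T := by
    intro g hg
    rw [hZ, mem_zpowers_iff_mem_range_orderOf, hTord] at hg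
    obtain ⟨k, hk, rfl⟩ := Finset.mem_image.mp hg
    rw [Finset.mem_range] at hk
    interval_cases k <;> simp
  haveI : Z.Normal := ⟨fun n hn g => by
    rw [Subgroup.mem_center_iff.mp (hZc hn) g, mul_inv_cancel_right]; exact hn⟩
  let q : C →* C ⧸ Z := QuotientGroup.mk' Z
  let xC : Fin 9 → C := fun i => ⟨x i, hmem (hx i)⟩
  have q3 : ∀ i, q (xC i) ^ 3 = 1 := fun i => by
    rw [← map_pow, show xC i ^ 3 = 1 from Subtype.ext (h3 i), map_one]
  have q2 : ∀ i j, i ≠ j → (q (xC i) * q (xC j)) ^ 2 = 1 := fun i j hij => by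
    rw [← map_mul, ← map_pow]
    refine (QuotientGroup.eq_one_iff _).mpr ?_
    rcases h2 i j hij with h | h
    · rw [show (xC i * xC j) ^ 2 = 1 from Subtype.ext h]; exact Z.one_mem
    · rw [show (xC i * xC j) ^ 2 = T from Subtype.ext h]; exact Subgroup.mem_zpowers T
  have qne : q (xC 0) ≠ 1 := fun h => by
    rcases hZ2 _ ((QuotientGroup.eq_one_iff _).mp h) with h' | h'
    · exact hne (congrArg Subtype.val h')
    · have h'' : x 0 = t := congrArg Subtype.val h'
      have := h3 0
      rw [h'', pow_succ, pow_two, ht2, one_mul] at this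
      exact ht1 this
  let e11 : Fin 2 ⊕ Fin 9 ≃ Fin 11 := finSumFinEquiv
  let A := alternatingGroup (Fin 2 ⊕ Fin 9)
  let z : Fin 9 → (C ⧸ Z) × A := fun i => (q (xC i), zA i)
  let P := Subgroup.closure (Set.range z)
  let zP : Fin 9 → P := fun i => ⟨z i, Subgroup.subset_closure ⟨i, rfl⟩⟩
  have hgenP : Subgroup.closure (Set.range zP) = ⊤ := by
    refine Subgroup.map_injective P.subtype_injective ?_
    rw [MonoidHom.map_closure, ← MonoidHom.range_eq_map, Subgroup.range_subtype, ← Set.range_comp]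
    rfl
  obtain ⟨hPfin, hPle⟩ := card_le_carmichael' zP
    (fun i => Subtype.ext (Prod.ext (q3 i) (zA_cube i)))
    (fun i j hij => Subtype.ext (Prod.ext (q2 i j hij) (zA_pair i j hij))) hgenP
  let π : P →* A := (MonoidHom.snd (C ⧸ Z) A).comp P.subtype
  have hπs : Function.Surjective π := by
    rw [← MonoidHom.range_eq_top, eq_top_iff, ← zA_gen, Subgroup.closure_le]
    rintro _ ⟨i, rfl⟩
    exact ⟨zP i, rfl⟩
  have hA : 2 * Nat.card A = (Fintype.card (Fin 9) + 2).factorial := two_mul_card
  have hπb : Function.Bijective π := (Nat.bijective_iff_surjective_and_card _).mpr ⟨hπs,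
    le_antisymm (by omega) (Nat.card_le_card_of_surjective _ hπs)⟩
  let eP : P ≃* A := MulEquiv.ofBijective π hπb
  let f : A →* C ⧸ Z := ((MonoidHom.fst (C ⧸ Z) A).comp P.subtype).comp eP.symm.toMonoidHom
  have hf0 : f (zA 0) = q (xC 0) := by
    show ((eP.symm (zA 0) : P) : (C ⧸ Z) × A).1 = _
    rw [eP.symm_apply_eq.mpr (show zA 0 = eP (zP 0) from rfl)]
  haveI hA11 : IsSimpleGroup (alternatingGroup (Fin 11)) :=
    alternatingGroup.isSimpleGroup (by simp)
  let eA : A ≃* alternatingGroup (Fin 11) := e11.altCongrHom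
  haveI : IsSimpleGroup A := eA.isSimpleGroup_congr.mpr hA11
  have hfi : Function.Injective f := by
    rw [← MonoidHom.ker_eq_bot_iff]
    refine (MonoidHom.normal_ker f).eq_bot_or_eq_top.resolve_right fun h => qne ?_
    rw [← hf0, ← MonoidHom.mem_ker, h]
    trivial
  have hfb : Function.Bijective f := (Nat.bijective_iff_injective_and_card _).mpr ⟨hfi,
    le_antisymm (Nat.card_le_card_of_injective _ hfi) (by
      have h1 := Subgroup.card_eq_card_quotient_mul_card_subgroup Z
      rw [hZcard] at h1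
      have h2 : (Fintype.card (Fin 9) + 2).factorial = 39916800 := by
        rw [Fintype.card_fin]; rfl
      rw [h2] at hA
      omega)⟩
  let eQ : C ⧸ Z ≃* alternatingGroup (Fin 11) := (MulEquiv.ofBijective f hfb).symm.trans eA
  refine ⟨eQ.toMonoidHom.comp q, eQ.surjective.comp (QuotientGroup.mk'_surjective Z),
    fun g => ?_, fun i h => ?_⟩
  · show eQ (q g) = 1 ↔ _
    rw [map_eq_one_iff eQ eQ.injective]
    show ((g : C) : C ⧸ Z) = 1 ↔ _
    rw [QuotientGroup.eq_one_iff]
    constructor
    · intro hg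
      rcases hZ2 g hg with rfl | rfl
      · exact Or.inl rfl
      · exact Or.inr rfl
    · rintro (h | h)
      · rw [show g = 1 from Subtype.ext h]; exact Z.one_mem
      · rw [show g = T from Subtype.ext h]; exact Subgroup.mem_zpowers T
  · have hfi' : f (zA i) = q (xC i) := by
      show ((eP.symm (zA i) : P) : (C ⧸ Z) × A).1 = _
      rw [eP.symm_apply_eq.mpr (show zA i = eP (zP i) from rfl)]
    show eA ((MulEquiv.ofBijective f hfb).symm (q (xC i))) = eA (zA i)
    rw [MulEquiv.symm_apply_eq (MulEquiv.ofBijective f hfb) |>.mpr (show q (xC i) = f (zA i) from hfi'.symm)]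

theorem double_alt {G : Type} [Group G] {t : G} (ht : orderOf t = 2)
    [Finite (Subgroup.centralizer ({t} : Set G))]
    (hcard : Nat.card (Subgroup.centralizer ({t} : Set G)) ≤ 39916800)
    (x : Fin 9 → G) (hx : ∀ i, x i * t = t * x i) (h3 : ∀ i, x i ^ 3 = 1)
    (h2 : ∀ i j, i ≠ j → (x i * x j) ^ 2 = 1 ∨ (x i * x j) ^ 2 = t) (hne : x 0 ≠ 1)
    (r : G) (hr : r * r = t) :
    Cfsg.IsNonsplitDoubleCover (Subgroup.centralizer ({t} : Set G)) (alternatingGroup (Fin 11)) := by
  classical
  set C := Subgroup.centralizer ({t} : Set G) with hC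
  obtain ⟨f, hfs, hfker, -⟩ : ∃ f : C →* alternatingGroup (Fin 11), Function.Surjective f ∧
      (∀ g, f g = 1 ↔ (g : G) = 1 ∨ (g : G) = t) ∧ ∀ i (h : x i ∈ C), f ⟨x i, h⟩ = z11 i :=
    exists_hom ht hcard x hx h3 h2 hne
  have hmem : ∀ {g : G}, g * t = t * g → g ∈ C := fun {g} h =>
    Subgroup.mem_centralizer_singleton_iff.mpr h
  have ht2 : t * t = 1 := by rw [← pow_two, ← ht, pow_orderOf_eq_one]
  have ht1 : t ≠ 1 := fun h => by rw [h, orderOf_one] at ht; omega
  let T : C := ⟨t, hmem rfl⟩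
  set Z := Subgroup.zpowers T with hZ
  have hTord : orderOf T = 2 := by rw [← ht, ← orderOf_injective C.subtype C.subtype_injective T]; rfl
  have hZcard : Nat.card Z = 2 := by rw [hZ, Nat.card_zpowers, hTord]
  have hZ2 : ∀ g ∈ Z, g = 1 ∨ g = T := by
    intro g hg
    rw [hZ, mem_zpowers_iff_mem_range_orderOf, hTord] at hg
    obtain ⟨k, hk, rfl⟩ := Finset.mem_image.mp hg
    rw [Finset.mem_range] at hk
    interval_cases k <;> simp
  have hker : f.ker = Z := by
    ext g
    rw [MonoidHom.mem_ker, hfker]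
    constructor
    · rintro (h | h)
      · rw [show g = 1 from Subtype.ext h]; exact Z.one_mem
      · rw [show g = T from Subtype.ext h]; exact Subgroup.mem_zpowers T
    · intro hg
      rcases hZ2 g hg with rfl | rfl
      · exact Or.inl rfl
      · exact Or.inr rfl
  have hZc : Z ≤ Subgroup.center C := (Subgroup.zpowers_le (H := Subgroup.center C)).mpr
    (Subgroup.mem_center_iff.mpr fun g => Subtype.ext (Subgroup.mem_centralizer_singleton_iff.mp g.2))
  haveI : Z.Normal := hker ▸ MonoidHom.normal_ker f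
  let q : C →* C ⧸ Z := QuotientGroup.mk' Z
  let eQ : C ⧸ Z ≃* alternatingGroup (Fin 11) :=
    (QuotientGroup.quotientMulEquivOfEq hker.symm).trans (QuotientGroup.quotientKerEquivOfSurjective f hfs)
  have hcen : Subgroup.center C = Z := by
    refine le_antisymm (fun g hg => ?_) hZc
    rw [← QuotientGroup.eq_one_iff]
    apply eQ.injective
    rw [map_one]
    have hc : eQ (q g) ∈ Subgroup.center (alternatingGroup (Fin 11)) := by
      rw [Subgroup.mem_center_iff]
      intro a
      obtain ⟨b, rfl⟩ := eQ.surjective a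
      obtain ⟨b, rfl⟩ := QuotientGroup.mk'_surjective Z b
      rw [← map_mul, ← map_mul, ← map_mul, ← map_mul, Subgroup.mem_center_iff.mp hg b]
    rw [alternatingGroup.center_eq_bot (by rw [Nat.card_fin]; norm_num), Subgroup.mem_bot] at hc
    exact hc
  rw [Cfsg.IsNonsplitDoubleCover]
  refine ⟨by rw [hcen]; exact hZcard, ⟨(QuotientGroup.quotientMulEquivOfEq hcen).trans eQ⟩, ?_⟩
  intro L hL
  rw [hcen] at hL
  have hrC : r ∈ C := hmem (by rw [← hr, mul_assoc])
  obtain ⟨⟨⟨a, ha⟩, ⟨l, hl⟩⟩, hal⟩ := hL.2 (⟨r, hrC⟩ : C)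
  have hal : a * l = ⟨r, hrC⟩ := hal
  have hTr : T = (⟨r, hrC⟩ : C) * ⟨r, hrC⟩ := Subtype.ext hr.symm
  have hTL : T ∈ L := by
    have hca : ∀ g, g * a = a * g := Subgroup.mem_center_iff.mp (hZc ha)
    have haa : a * a = 1 := by
      rcases hZ2 a ha with h | h
      · rw [h, one_mul]
      · rw [h]; exact Subtype.ext ht2
    have : a * l * (a * l) = a * a * (l * l) := by
      rw [mul_assoc, ← mul_assoc l a, hca l]; simp only [mul_assoc]
    rw [hTr, ← hal, this, haa, one_mul]
    exact L.mul_mem hl hl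
  have : T = 1 := by
    have h := hL.disjoint.le_bot (show T ∈ Z ⊓ L from ⟨Subgroup.mem_zpowers T, hTL⟩)
    simpa using h
  exact ht1 (congrArg Subtype.val this)

end Cfsg.Agent.H37.LyPerm
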