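import Mathlib

/-!
Fixed cosets of an involution, counted orbit by orbit.
-/

set_option autoImplicit false
set_option linter.style.haveILetI false

namespace Cfsg.Agent.H37.LyPerm

open MulAction

variable {G : Type*} [Group G]

/-- A centraliser is bounded by its part in `U` times the number of fixed cosets. -/
theorem card_centralizer_le [Finite G] (U : Subgroup G) (t : U) :
    Nat.card (Subgroup.centralizer ({(t : G)} : Set G)) ≤
      Nat.card (Subgroup.centralizer ({t} : Set U)) * Nat.card (fixedBy (G ⧸ U) (t : G)) := by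
  set C := Subgroup.centralizer ({(t : G)} : Set G)
  have hfix : ∀ c : C, ((c : G) : G ⧸ U) ∈ fixedBy (G ⧸ U) (t : G) := fun c => by
    rw [mem_fixedBy, Quotient.smul_coe, smul_eq_mul, ← Subgroup.mem_centralizer_singleton_iff.mp c.2,
      QuotientGroup.eq]
    simp [mul_assoc]
  let f : C ⧸ U.subgroupOf C → fixedBy (G ⧸ U) (t : G) :=
    Quotient.lift (fun c => ⟨((c : G) : G ⧸ U), hfix c⟩) fun a b h =>
      Subtype.ext (QuotientGroup.eq.mpr
        ((QuotientGroup.leftRel_apply (s := U.subgroupOf C)).mp h :))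
  have hf : Function.Injective f := by
    intro a b h
    induction a using QuotientGroup.induction_on with
    | _ a =>
      induction b using QuotientGroup.induction_on with
      | _ b => exact QuotientGroup.eq.mpr (QuotientGroup.eq.mp (congrArg Subtype.val h) :)
  let g : U.subgroupOf C → Subgroup.centralizer ({t} : Set U) := fun c =>
    ⟨⟨((c : C) : G), c.2⟩, Subgroup.mem_centralizer_singleton_iff.mpr
      (Subtype.ext (Subgroup.mem_centralizer_singleton_iff.mp (c : C).2))⟩
  have hg : Function.Injective g := fun a b h =>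
    Subtype.ext (Subtype.ext (congrArg (fun z : Subgroup.centralizer ({t} : Set U) => ((z : U) : G)) h))
  rw [Subgroup.card_eq_card_quotient_mul_card_subgroup (U.subgroupOf C), mul_comm]
  exact Nat.mul_le_mul (Nat.card_le_card_of_injective g hg) (Nat.card_le_card_of_injective f hf)

/-- Fixed cosets of `K` in `U`. -/
theorem card_fixedBy_mul_le {U : Type*} [Group U] [Finite U] (K : Subgroup U) (t : U) (ht : orderOf t = 2) :
    Nat.card (fixedBy (U ⧸ K) t) * Nat.card K ≤
      Nat.card (Subgroup.centralizer ({t} : Set U)) * Nat.card {k : K // orderOf k = 2} := by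
  classical
  have hk : ∀ (q : fixedBy (U ⧸ K) t) (k : K),
      ((q : U ⧸ K).out * k)⁻¹ * t * ((q : U ⧸ K).out * k) ∈ K := fun q k => by
    have h := q.2
    rw [mem_fixedBy, ← QuotientGroup.out_eq' (q : U ⧸ K), Quotient.smul_coe, smul_eq_mul,
      QuotientGroup.eq] at h
    have h2 : (q : U ⧸ K).out⁻¹ * t * (q : U ⧸ K).out ∈ K := by
      have := K.inv_mem h
      simpa [mul_assoc] using this
    rw [show ((q : U ⧸ K).out * k)⁻¹ * t * ((q : U ⧸ K).out * k) =
      (k : U)⁻¹ * ((q : U ⧸ K).out⁻¹ * t * (q : U ⧸ K).out) * k by simp [mul_assoc]]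
    exact K.mul_mem (K.mul_mem (K.inv_mem k.2) h2) k.2
  let F : fixedBy (U ⧸ K) t × K → {k : K // orderOf k = 2} := fun p =>
    ⟨⟨_, hk p.1 p.2⟩, by
      rw [← orderOf_injective K.subtype K.subtype_injective, Subgroup.coe_subtype, ← ht]
      simpa [mul_assoc] using (orderOf_injective (MulAut.conj ((((p.1 : U ⧸ K).out * p.2))⁻¹)).toMonoidHom
        (MulAut.conj _).injective t)⟩
  let y : {k : K // orderOf k = 2} → U := fun s =>
    if h : ∃ p, F p = s then ((h.choose.1 : U ⧸ K).out * h.choose.2) else 1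
  let E : fixedBy (U ⧸ K) t × K → Subgroup.centralizer ({t} : Set U) × {k : K // orderOf k = 2} :=
    fun p => (⟨((p.1 : U ⧸ K).out * p.2) * (y (F p))⁻¹, by
      have hex : ∃ p', F p' = F p := ⟨p, rfl⟩
      have e : ((hex.choose.1 : U ⧸ K).out * hex.choose.2)⁻¹ * t *
          ((hex.choose.1 : U ⧸ K).out * hex.choose.2) =
          ((p.1 : U ⧸ K).out * p.2)⁻¹ * t * ((p.1 : U ⧸ K).out * p.2) :=
        congrArg (fun z : {k : K // orderOf k = 2} => ((z : K) : U)) hex.choose_spec
      rw [Subgroup.mem_centralizer_singleton_iff]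
      simp only [y, dif_pos hex]
      generalize (p.1 : U ⧸ K).out * p.2 = a at e ⊢
      generalize (hex.choose.1 : U ⧸ K).out * hex.choose.2 = b at e ⊢
      calc a * b⁻¹ * t = a * (b⁻¹ * t * b) * b⁻¹ := by simp [mul_assoc]
        _ = t * (a * b⁻¹) := by rw [e]; simp [mul_assoc]⟩, F p)
  have hE : Function.Injective E := by
    rintro ⟨q, k⟩ ⟨q', k'⟩ h
    have h1 := congrArg Prod.snd h
    have h2 := congrArg (fun z => ((z.1 : Subgroup.centralizer ({t} : Set U)) : U)) h
    simp only [E] at h1 h2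
    rw [h1, mul_left_inj] at h2
    have hq : (q : U ⧸ K) = q' := by
      rw [← QuotientGroup.out_eq' (q : U ⧸ K), ← QuotientGroup.out_eq' (q' : U ⧸ K), QuotientGroup.eq,
        show (q : U ⧸ K).out⁻¹ * (q' : U ⧸ K).out = (k : U) * (k' : U)⁻¹ by
          rw [eq_mul_inv_iff_mul_eq, mul_assoc, ← h2, inv_mul_cancel_left]]
      exact K.mul_mem k.2 (K.inv_mem k'.2)
    have hq' : q = q' := Subtype.ext hq
    subst hq'
    exact Prod.ext rfl (Subtype.ext (mul_left_cancel h2))
  have := Nat.card_le_card_of_injective E hE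
  rwa [Nat.card_prod, Nat.card_prod] at this

/-- Fixed cosets, orbit by orbit. -/
theorem card_fixedBy_eq [Finite G] (U : Subgroup G) {ι : Type*} [Fintype ι] (g : ι → G)
    (K : ι → Subgroup U) (hK : ∀ i, ∀ k ∈ K i, (g i)⁻¹ * (k : G) * g i ∈ U)
    (hcov : ∀ x : G, ∃ i, ∃ h : U, x⁻¹ * ((h : G) * g i) ∈ U)
    (hsum : ∑ i, (K i).index ≤ U.index) (t : U) :
    Nat.card (fixedBy (G ⧸ U) (t : G)) = ∑ i, Nat.card (fixedBy (U ⧸ K i) t) := by
  classical
  let φ : ∀ i, U ⧸ K i → G ⧸ U := fun i => Quotient.lift (fun h : U => ((h : G) * g i : G ⧸ U))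
    fun a b hab => by
      have h := hK i _ (QuotientGroup.leftRel_apply.mp hab)
      refine QuotientGroup.eq.mpr ?_
      simpa [mul_assoc] using h
  let Φ : (Σ i, U ⧸ K i) → G ⧸ U := fun p => φ p.1 p.2
  have hs : Function.Surjective Φ := by
    intro x
    induction x using QuotientGroup.induction_on with
    | _ x =>
      obtain ⟨i, h, hh⟩ := hcov x
      exact ⟨⟨i, (h : U ⧸ K i)⟩, (QuotientGroup.eq.mpr hh).symm⟩
  have hb : Function.Bijective Φ := (Nat.bijective_iff_surjective_and_card _).mpr ⟨hs,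
    le_antisymm (by rw [Nat.card_sigma]; exact hsum) (Nat.card_le_card_of_surjective Φ hs)⟩
  have heq : ∀ p : (Σ i, U ⧸ K i), Φ ⟨p.1, t • p.2⟩ = (t : G) • Φ p := by
    rintro ⟨i, q⟩
    induction q using QuotientGroup.induction_on with
    | _ h =>
      show (((t * h : U) : G) * g i : G ⧸ U) = (t : G) • (((h : G) * g i : G) : G ⧸ U)
      rw [Quotient.smul_coe, smul_eq_mul, Subgroup.coe_mul, mul_assoc]
  rw [← Nat.card_sigma]
  refine (Nat.card_eq_of_bijective (fun p : (Σ i, fixedBy (U ⧸ K i) t) =>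
    (⟨Φ ⟨p.1, p.2.1⟩, by rw [mem_fixedBy, ← heq ⟨p.1, p.2.1⟩, p.2.2]⟩ :
      fixedBy (G ⧸ U) (t : G))) ⟨?_, ?_⟩).symm
  · rintro ⟨i, q, hq⟩ ⟨j, r, hr⟩ h
    have := hb.1 (congrArg Subtype.val h)
    cases this
    rfl
  · rintro ⟨x, hx⟩
    obtain ⟨⟨i, q⟩, rfl⟩ := hb.2 x
    rw [mem_fixedBy, ← heq ⟨i, q⟩] at hx
    have := hb.1 hx
    exact ⟨⟨i, q, by simpa using this⟩, rfl⟩

end Cfsg.Agent.H37.LyPerm
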