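import Cfsg.Agent.H37.LyPerm.SylData
import Cfsg.Agent.H37.LyPerm.Count
import Cfsg.Agent.H89.SimpleTools
import Cfsg.Agent.H89.SimpleCriterion

/-!
The 2-fusion system of the Lyons group is simple.
-/

set_option autoImplicit false
set_option maxRecDepth 100000
set_option linter.style.haveILetI false

namespace Cfsg.Agent.H37.LyPerm

open Cfsg Cfsg.FusionSystem Cfsg.Agent.FusionSys Cfsg.Agent.H89
open Cfsg.Agent.H27.LyRep (rho)

local notation "LY" => Cfsg.Spor.Ly

/-- the five goal permutations -/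
def goal : Fin 5 → Equiv.Perm (Fin 11) := ![Syl11.a1, Syl11.a2, Syl11.qb, Syl11.qc, Syl11.qd]

theorem base_words :
    (∀ i, Syl11.pe 3 i = Syl11.a1 (Syl11.a2 i)) ∧
    (∀ i, Syl11.pe 2 i = Syl11.qc (Syl11.a1 (Syl11.a2 (Syl11.qc i)))) ∧
    (∀ i, Syl11.pe 1 i = Syl11.qb (Syl11.a1 (Syl11.a2 (Syl11.qb i)))) ∧
    (∀ i, Syl11.pe 0 i = Syl11.qc (Syl11.qb (Syl11.a1 (Syl11.a2 (Syl11.qb (Syl11.qc i)))))) := by
  decide +kernel

theorem goal_mem_P : ∀ k, ∀ i j, Syl11.lab (goal k i) (goal k j) = Syl11.lab i j := by decide +kernel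

/-- Data of a Sylow 2-subgroup of Ly inside the involution centraliser. -/
theorem sylow_data (hc : Nat.card LY = 51765179004000000)
    (hinj : Function.Injective rho) (hidx : Cfsg.Agent.H27.LyG2.H4.index = 8835156) :
    ∃ S0 : Subgroup LY, Nat.card S0 = 256 ∧ tI ∈ S0 ∧
      (∀ c ∈ S0, (∀ s ∈ S0, s * c = c * s) → c = 1 ∨ c = tI) ∧
      (∀ K : Subgroup LY, tI ∈ K → (∀ k : Fin 5, syl k ∈ K) → S0 ≤ K) ∧
      (∀ k : Fin 5, syl k ∈ S0) ∧ (∀ k : Fin 5, syl k * tI = tI * syl k) ∧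
      (∀ g : LY, g * tI = tI * g → (∀ x, x ∈ S0 ↔ g * x * g⁻¹ ∈ S0) → g ∈ S0) := by
  classical
  haveI : Finite LY := Nat.finite_of_card_ne_zero (by rw [hc]; norm_num)
  set C := Subgroup.centralizer ({tI} : Set LY) with hC
  have hmem : ∀ {g : LY}, g * tI = tI * g → g ∈ C := fun {g} h =>
    Subgroup.mem_centralizer_singleton_iff.mpr h
  have ht2 : tI * tI = 1 := tI_sq hinj
  have ht : orderOf (tI : LY) = 2 := orderOf_eq_prime_iff.mpr ⟨by rw [pow_two]; exact ht2, tI_ne⟩
  obtain ⟨f, hfs, hfk, hfx⟩ : ∃ f : C →* alternatingGroup (Fin 11), Function.Surjective f ∧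
      (∀ g, f g = 1 ↔ (g : LY) = 1 ∨ (g : LY) = tI) ∧ ∀ i (h : cyc i ∈ C), f ⟨cyc i, h⟩ = z11 i :=
    exists_hom ht (card_centralizer_t hinj hidx) cyc (cyc_comm hinj) (cyc_cube hinj) (cyc_pair hinj) c0_ne
  let x : Fin 9 → C := fun i => ⟨cyc i, hmem (cyc_comm hinj i)⟩
  have hx : ∀ i, f (x i) = z11 i := fun i => hfx i _
  have hsyl : ∀ k : Fin 5, ∃ h : syl k ∈ C, ∀ i, (f ⟨syl k, h⟩).val i = goal k i := by
    have aux : ∀ (g : LY) (y : C) (p : alternatingGroup (Fin 11)) (q : Equiv.Perm (Fin 11)),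
        (y : LY) = g → f y = p → (∀ i, p.val i = q i) → ∃ h : g ∈ C, ∀ i, (f ⟨g, h⟩).val i = q i := by
      intro g y p q e ep eq
      subst e
      exact ⟨y.2, fun i => by rw [show (⟨(y : LY), y.2⟩ : C) = y from rfl, ep]; exact eq i⟩
    intro k
    fin_cases k
    · exact aux _ (x 0 * x 2 * x 1 * x 3 * x 0 * x 2 * x 4 * (x 5 * x 5) * x 4) _ _ (by simp [x, syl, cyc]) (by simp only [map_mul, hx]) syl0_perm
    · exact aux _ (x 0 * x 2 * x 1 * x 3 * x 0 * x 2 * x 6 * (x 7 * x 7) * x 6) _ _ (by simp [x, syl, cyc]) (by simp only [map_mul, hx]) syl1_perm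
    · exact aux _ (x 0 * x 1 * x 4 * x 5 * x 0 * x 1 * x 2 * x 3) _ _ (by simp [x, syl, cyc]) (by simp only [map_mul, hx]) syl2_perm
    · exact aux _ (x 0 * x 1 * x 2 * x 3 * x 4 * x 5 * x 2 * x 3) _ _ (by simp [x, syl, cyc]) (by simp only [map_mul, hx]) syl3_perm
    · exact aux _ (x 0 * x 1 * x 4 * x 6 * x 5 * x 7 * x 4 * x 6) _ _ (by simp [x, syl, cyc]) (by simp only [map_mul, hx]) syl4_perm
  choose hsC hsv using hsyl
  let T : C := ⟨tI, hmem rfl⟩
  have hT : f T = 1 := (hfk T).2 (Or.inr rfl)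
  set U := Syl11.P.comap f with hU
  have hUt : T ∈ U := by show f T ∈ Syl11.P; rw [hT]; exact one_mem _
  have hUs : ∀ k, (⟨syl k, hsC k⟩ : C) ∈ U := fun k i j => by
    rw [hsv k, hsv k]; exact goal_mem_P k i j
  refine ⟨U.map C.subtype, ?_, ⟨T, hUt, rfl⟩, ?_, ?_, fun k => ⟨_, hUs k, rfl⟩,
    fun k => Subgroup.mem_centralizer_singleton_iff.mp (hsC k), ?_⟩
  · rw [← Nat.card_congr (U.equivMapOfInjective C.subtype C.subtype_injective).toEquiv]
    have h1 := U.card_mul_index
    rw [hU, Subgroup.index_comap_of_surjective _ hfs, ← f.ker.card_mul_index, Subgroup.index_ker,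
      MonoidHom.range_eq_top.mpr hfs, Subgroup.card_top] at h1
    have hk2 : Nat.card f.ker = 2 := by
      have hTk : T ∈ f.ker := MonoidHom.mem_ker.mpr hT
      rw [Nat.card_eq_two_iff]
      refine ⟨1, ⟨T, hTk⟩, fun e => tI_ne (congrArg (fun z : f.ker => ((z : C) : LY)) e).symm,
        Set.eq_univ_of_forall fun z => ?_⟩
      rcases (hfk z.1).1 (MonoidHom.mem_ker.mp z.2) with h | h
      · exact Or.inl (Subtype.ext (Subtype.ext h))
      · exact Or.inr (Subtype.ext (Subtype.ext h))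
    rw [hk2, ← Syl11.P.card_mul_index, Syl11.card_P] at h1
    have hpos : 0 < Syl11.P.index := Nat.pos_of_ne_zero Subgroup.index_ne_zero_of_finite
    nlinarith
  · rintro _ ⟨c, hc', rfl⟩ hcomm
    have hP : f c ∈ Syl11.P := hc'
    obtain ⟨v, hv⟩ := Syl11.exists_nf hP
    have hck : ∀ k i, (f c).val (goal k i) = goal k ((f c).val i) := fun k i => by
      have h : (⟨syl k, hsC k⟩ : C) * c = c * ⟨syl k, hsC k⟩ :=
        Subtype.ext (hcomm _ ⟨_, hUs k, rfl⟩)
      have e := congrArg (fun z => (f z).val i) h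
      simp only [map_mul, Subgroup.coe_mul, Equiv.Perm.mul_apply, hsv k] at e
      exact e.symm
    rcases Syl11.centre_nf v (fun i => by rw [hv]; exact ⟨hck 1 i, hck 2 i, hck 3 i, hck 4 i⟩) with h | h
    · have : f c = 1 := Subtype.ext (Equiv.ext fun i => by rw [← hv]; exact h i)
      exact (hfk c).1 this
    · exfalso
      have e : f (c * (⟨syl 0, hsC 0⟩ : C)⁻¹) = 1 := by
        rw [map_mul, map_inv, mul_inv_eq_one]
        refine Subtype.ext (Equiv.ext fun i => ?_)
        rw [← hv, h i]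
        exact (hsv 0 i).symm
      have h01 : syl 1 * (c : LY) = (c : LY) * syl 1 := hcomm _ ⟨_, hUs 1, rfl⟩
      rcases (hfk _).1 e with h' | h'
      · refine syl_ncomm ?_
        have hc0 : (c : LY) = syl 0 := mul_inv_eq_one.1 h'
        rw [← hc0]; exact h01.symm
      · refine syl_ncomm ?_
        have hc0 : syl 0 = tI * (c : LY) := by
          have h2 : (c : LY) = tI * syl 0 := mul_inv_eq_iff_eq_mul.1 h'
          rw [h2, ← mul_assoc, ht2, one_mul]
        have hts : syl 1 * tI = tI * syl 1 := Subgroup.mem_centralizer_singleton_iff.mp (hsC 1)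
        rw [hc0, mul_assoc, ← h01, ← mul_assoc, ← mul_assoc, hts]
  · intro K htK hsK
    rintro _ ⟨c, hc', rfl⟩
    have hle : Syl11.P ≤ (K.comap C.subtype).map f := by
      refine Syl11.P_le_closure.trans ((Subgroup.closure_le _).2 ?_)
      have hg : ∀ k, ∃ z ∈ K.comap C.subtype, ∀ i, (f z).val i = goal k i := fun k => ⟨⟨syl k, hsC k⟩, hsK k, hsv k⟩
      obtain ⟨za, hza, eza⟩ := hg 0
      obtain ⟨zb, hzb, ezb⟩ := hg 1
      obtain ⟨zq, hzq, ezq⟩ := hg 2
      obtain ⟨zc, hzc, ezc⟩ := hg 3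
      obtain ⟨zd, hzd, ezd⟩ := hg 4
      obtain ⟨w3, w2, w1, w0⟩ := base_words
      have mk : ∀ (z : C) (p : alternatingGroup (Fin 11)), z ∈ K.comap C.subtype →
          (∀ i, (f z).val i = p.val i) → p ∈ (K.comap C.subtype).map f := fun z p hz hp =>
        ⟨z, hz, Subtype.ext (Equiv.ext hp)⟩
      intro p hp
      simp only [Syl11.base, List.mem_cons, List.not_mem_nil, or_false, Set.mem_ofPred_eq] at hp
      rcases hp with rfl | rfl | rfl | rfl | rfl | rfl | rfl
      · refine mk (zc * zq * za * zb * zq * zc) _ (by repeat' first | apply mul_mem | assumption) fun i => ?_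
        simp only [map_mul, Subgroup.coe_mul, Equiv.Perm.mul_apply, eza, ezb, ezq, ezc]
        exact (w0 i).symm
      · refine mk (zq * za * zb * zq) _ (by repeat' first | apply mul_mem | assumption) fun i => ?_
        simp only [map_mul, Subgroup.coe_mul, Equiv.Perm.mul_apply, eza, ezb, ezq]
        exact (w1 i).symm
      · refine mk (zc * za * zb * zc) _ (by repeat' first | apply mul_mem | assumption) fun i => ?_
        simp only [map_mul, Subgroup.coe_mul, Equiv.Perm.mul_apply, eza, ezb, ezc]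
        exact (w2 i).symm
      · refine mk (za * zb) _ (by repeat' first | apply mul_mem | assumption) fun i => ?_
        simp only [map_mul, Subgroup.coe_mul, Equiv.Perm.mul_apply, eza, ezb]
        exact (w3 i).symm
      · exact mk zq _ hzq ezq
      · exact mk zc _ hzc ezc
      · exact mk zd _ hzd ezd
    obtain ⟨z, hz, e⟩ := hle hc'
    have hd : f (c * z⁻¹) = 1 := by rw [map_mul, map_inv, e, mul_inv_cancel]
    have hz' : (z : LY) ∈ K := hz
    rcases (hfk _).1 hd with h | h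
    · have h2 : (c : LY) = z := mul_inv_eq_one.1 h
      show (c : LY) ∈ K
      rw [h2]; exact hz'
    · have h2 : (c : LY) = tI * z := mul_inv_eq_iff_eq_mul.1 h
      show (c : LY) ∈ K
      rw [h2]; exact K.mul_mem htK hz'
  · intro g hg hn
    refine ⟨⟨g, hmem hg⟩, ?_, rfl⟩
    show f _ ∈ Syl11.P
    refine Syl11.mem_of_normalizes fun π => ?_
    obtain ⟨z, rfl⟩ := hfs π
    rw [← map_inv, ← map_mul, ← map_mul]
    have key : ∀ y : C, f y ∈ Syl11.P ↔ (y : LY) ∈ U.map C.subtype := fun y =>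
      (Subgroup.mem_map_iff_mem C.subtype_injective (K := U) (x := y)).symm
    rw [key, key]
    exact hn z

theorem main {G : Type*} [Group G] [Finite G] (ψ : LY ≃* G) (S0 : Subgroup LY)
    (ht : tI ∈ S0) (ht1 : (tI : LY) ≠ 1)
    (hz : ∀ c ∈ S0, (∀ s ∈ S0, s * c = c * s) → c = 1 ∨ c = tI)
    (hgen : ∀ K : Subgroup LY, tI ∈ K → (∀ k : Fin 5, syl k ∈ K) → S0 ≤ K)
    (hsy : ∀ k : Fin 5, syl k ∈ S0) (syl_comm : ∀ k : Fin 5, syl k * tI = tI * syl k) (hconj : ∀ k : Fin 5, ∃ g, g * tI = syl k * g)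
    (hnorm : ∀ g : LY, g * tI = tI * g → (∀ x, x ∈ S0 ↔ g * x * g⁻¹ ∈ S0) → g ∈ S0)
    (S : Sylow 2 G) (hS : (S : Subgroup G) = S0.map ψ.toMonoidHom) :
    (groupFusionSystem (S : Subgroup G)).IsSimple 2 := by
  classical
  have hmem : ∀ s : LY, ψ s ∈ (S : Subgroup G) ↔ s ∈ S0 := fun s => by
    rw [hS]; exact Subgroup.mem_map_iff_mem (f := ψ.toMonoidHom) ψ.injective
  refine isSimple_of_criterion S (isSaturated_group S) ?_ ?_ ?_
  · intro hbot
    have : ψ tI ∈ (⊥ : Subgroup G) := hbot ▸ (hmem tI).2 ht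
    rw [Subgroup.mem_bot] at this
    exact ht1 (ψ.injective (this.trans (map_one ψ).symm))
  · intro T hT
    by_cases hne : T = ⊥
    · exact Or.inl hne
    refine Or.inr (le_antisymm hT.1 ?_)
    obtain ⟨c, hcT, hc1, hcc⟩ := exists_central_mem S hT hne
    obtain ⟨c, rfl⟩ := ψ.surjective c
    have hcS : c ∈ S0 := (hmem c).1 (hT.1 hcT)
    rcases hz c hcS (fun s hs => ψ.injective (by
      rw [map_mul, map_mul]; exact hcc _ ((hmem s).2 hs))) with rfl | rfl
    · exact absurd (map_one ψ) hc1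
    rw [hS]
    refine Subgroup.map_le_iff_le_comap.2 (hgen _ hcT fun k => ?_)
    obtain ⟨g, hg⟩ := hconj k
    have e : syl k = g * tI * g⁻¹ := by rw [hg, mul_inv_cancel_right]
    show ψ (syl k) ∈ T
    rw [e, map_mul, map_mul, map_inv]
    refine mem_of_conj_mem hT hcT ?_
    rw [← map_inv, ← map_mul, ← map_mul, ← e]
    exact (hmem _).2 (hsy k)
  · intro α hα
    obtain ⟨x, -, hxn, rfl⟩ := mem_autInducedBy.1 hα
    obtain ⟨g, rfl⟩ := ψ.surjective x
    have hn : ∀ s, s ∈ S0 ↔ g * s * g⁻¹ ∈ S0 := fun s => by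
      rw [← hmem s, ← hmem (g * s * g⁻¹), map_mul, map_mul, map_inv]
      exact Subgroup.mem_normalizer_iff.1 hxn (ψ s)
    have hgt : g * tI = tI * g := by
      rcases hz (g * tI * g⁻¹) ((hn _).1 ht) (fun s hs => by
        have hs' : g⁻¹ * s * g ∈ S0 := (hn _).2 (by
          rw [show g * (g⁻¹ * s * g) * g⁻¹ = s by group]; exact hs)
        have hcen : ∀ u ∈ S0, u * tI = tI * u := fun u hu =>
          (Subgroup.mem_centralizer_singleton_iff.mp
            ((hgen (Subgroup.centralizer ({tI} : Set LY))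
              (Subgroup.mem_centralizer_singleton_iff.mpr rfl)
              (fun k => Subgroup.mem_centralizer_singleton_iff.mpr (syl_comm k))) hu))
        calc s * (g * tI * g⁻¹) = g * ((g⁻¹ * s * g) * tI) * g⁻¹ := by group
          _ = g * (tI * (g⁻¹ * s * g)) * g⁻¹ := by rw [hcen _ hs']
          _ = g * tI * g⁻¹ * s := by group) with h | h
      · exact absurd (conj_eq_one_iff.1 h) ht1
      · exact mul_inv_eq_iff_eq_mul.1 h
    have hgS : ψ g ∈ pElementsOfNormalizer 2 (S : Subgroup G) := by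
      have hgm : ψ g ∈ (S : Subgroup G) := (hmem g).2 (hnorm g hgt hn)
      obtain ⟨k, hk⟩ := S.isPGroup' ⟨ψ g, hgm⟩
      obtain ⟨j, -, hj⟩ := (Nat.dvd_prime_pow Nat.prime_two).1
        (orderOf_dvd_of_pow_eq_one (show (ψ g) ^ 2 ^ k = 1 from congrArg Subtype.val hk))
      exact Subgroup.subset_closure ⟨Subgroup.le_normalizer hgm, ⟨j, hj⟩⟩
    exact (le_iSup₂ (f := fun R _ => autInducedBy (pElementsOfNormalizer 2 R) (S : Subgroup G)) (S : Subgroup G)
      ⟨isFullyNormalized_of_le_normalizer S le_rfl Subgroup.le_normalizer,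
        isCentric_of_le_normalizer S le_rfl Subgroup.le_normalizer (fun y hy => (FusionSys.mem_centralizerIn.1 hy).1)⟩)
      (mem_autInducedBy.2 ⟨ψ g, hgS, hxn, rfl⟩)

/-- The 2-fusion system of the Lyons group is simple, given its order data. -/
theorem two_fusion_simple (hc : Nat.card LY = 51765179004000000) (hinj : Function.Injective rho)
    (hidx : Cfsg.Agent.H27.LyG2.H4.index = 8835156) {G : Type*} [Group G] [Finite G]
    (hG : Cfsg.Spor.IsoLy G) (S : Sylow 2 G) :
    (groupFusionSystem (S : Subgroup G)).IsSimple 2 := by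
  obtain ⟨e⟩ := hG
  haveI : Finite LY := Nat.finite_of_card_ne_zero (by rw [hc]; norm_num)
  obtain ⟨S0, h256, ht, hz, hgen, hsy, hcomm, hnorm⟩ := sylow_data hc hinj hidx
  have hPc : Nat.card (S0.map e.symm.toMonoidHom : Subgroup G) = 256 := by
    rw [← Nat.card_congr (S0.equivMapOfInjective e.symm.toMonoidHom e.symm.injective).toEquiv, h256]
  have hP : IsPGroup 2 (S0.map e.symm.toMonoidHom : Subgroup G) :=
    IsPGroup.of_card (n := 8) (by rw [hPc]; norm_num)
  have hi : ¬ 2 ∣ (S0.map e.symm.toMonoidHom : Subgroup G).index := by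
    have h := (S0.map e.symm.toMonoidHom : Subgroup G).card_mul_index
    rw [hPc, Nat.card_congr e.toEquiv, hc] at h
    omega
  obtain ⟨g, hg⟩ := MulAction.exists_smul_eq G (hP.toSylow hi) S
  refine main (e.symm.trans (MulAut.conj g)) S0 ht tI_ne hz hgen hsy hcomm ?_ hnorm S ?_
  · intro k
    fin_cases k
    · exact syl0_conj hinj
    · exact syl1_conj hinj
    · exact syl2_conj hinj
    · exact syl3_conj hinj
    · exact syl4_conj hinj
  · rw [← hg, Sylow.coe_subgroup_smul, Subgroup.pointwise_smul_def]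
    show (S0.map e.symm.toMonoidHom).map (MulAut.conj g).toMonoidHom = _
    rw [Subgroup.map_map]
    rfl

end Cfsg.Agent.H37.LyPerm
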