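import Cfsg.Agent.H37.LyPerm.Stab

/-!
Kernel checks: generators of the stabilisers fix the subspace.
-/

set_option autoImplicit false
set_option Elab.async false
set_option maxRecDepth 100000

namespace Cfsg.Agent.H37.LyPerm

open Cfsg.Agent.H27.LyRep (evM)

theorem lowPee0 : lowOK (evM [8,4,6,0,6,3,3,6,3,7,0,0,2,6,2,1,2,6,1,1,1,4,1,4,4,2,7,3,0,3,1,3,7,0,4,1,3,6,0,6,3,3,6,3,7,0,0,2,6,2,1,2,6,1,1,1,4,1,4,4,2,7,3,0,3,1,3,7,0,4,1,3,5,9]) = true := by decide +kernel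

theorem lowFour1 : lowOK (evM [8,7,3,8,3,6,1,0,3,1,1,6,3,3,6,2,3,7,1,6,2,0,7,1,3,7,7,3,0,1,2,2,5,4,1,2,3,3,7,1,7,2,7,0,1,3,6,7,7,7,7,3,6,7,2,3,9,2,6,9]) = true := by decide +kernel

theorem lowTwo1 : lowOK (evM [8,7,8,4,6,7,0,6,2,2,3,4,2,0,1,7,7,1,4,5,3,5,0,5,3,0,1,5,5,2,6,6,1,3,4,4,0,5,5,1,5,4,0,3,4,2,2,1,1,3,2,3,7,5,9,6,9]) = true := by decide +kernel

theorem lowThree0 : lowOK (evM [8,7,5,7,8,0,1,4,6,1,0,2,6,4,4,1,6,1,0,7,2,3,1,4,0,5,0,1,6,2,2,7,5,2,2,6,1,6,6,7,0,4,6,7,1,0,6,0,3,2,1,9,6,4,6,9]) = true := by decide +kernel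

theorem lowFour0 : lowOK (evM [8,7,3,8,7,4,7,0,1,2,3,3,2,1,4,4,6,4,3,1,6,0,4,5,5,3,0,6,0,1,5,4,4,4,0,1,4,5,7,5,6,3,7,3,4,1,2,5,5,3,5,3,9,2,6,9]) = true := by decide +kernel

theorem lowThree1 : lowOK (evM [8,7,5,7,8,5,6,0,6,0,3,6,3,3,3,0,6,2,4,2,2,5,4,4,5,0,3,2,1,1,0,1,4,4,6,0,2,6,5,6,7,5,4,1,4,7,1,1,1,9,6,4,6,9]) = true := by decide +kernel

theorem lowTwo0 : lowOK (evM [8,7,8,6,2,1,1,6,6,0,6,3,1,5,4,0,3,0,0,7,4,5,4,5,2,6,9,6,9]) = true := by decide +kernel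

theorem lowEll0 : lowOK (evM [8,4,2,0,5,7,7,3,3,0,4,1,4,1,6,1,2,6,1,1,5,9]) = true := by decide +kernel

end Cfsg.Agent.H37.LyPerm
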