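import Mathlib

/-!
A Sylow 2-subgroup of the alternating group of degree 11, as the automorphisms of a block system; it is
self-normalising, its centre has order 2.
-/

set_option autoImplicit false
set_option maxRecDepth 100000
set_option linter.style.haveILetI false

namespace Cfsg.Agent.H37.LyPerm.Syl11

open Equiv Equiv.Perm

/-- orbit class -/
def cls (i : Fin 11) : ℕ := if i.val < 8 then 0 else if i.val < 10 then 1 else 2

/-- relative position of two points -/
def lab (i j : Fin 11) : ℕ :=
  if i = j then cls i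
  else if i.val < 8 ∧ j.val < 8 then
    (if i.val / 2 = j.val / 2 then 10 else if i.val / 4 = j.val / 4 then 11 else 12)
  else 20 + 3 * cls i + cls j

/-- the automorphisms of the blocks -/
def P : Subgroup (alternatingGroup (Fin 11)) where
  carrier := {σ | ∀ i j, lab (σ.val i) (σ.val j) = lab i j}
  one_mem' := fun _ _ => rfl
  mul_mem' := fun {a b} ha hb i j => (ha (b.val i) (b.val j)).trans (hb i j)
  inv_mem' := fun {a} ha i j => by
    show lab (a.val⁻¹ i) (a.val⁻¹ j) = lab i j
    conv_rhs => rw [← a.val.apply_symm_apply i, ← a.val.apply_symm_apply j]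
    exact (ha _ _).symm

/-- swaps of one pair together with the two outer points -/
def pe (k : Fin 4) : Perm (Fin 11) :=
  swap ⟨2 * k.val, by omega⟩ ⟨2 * k.val + 1, by omega⟩ * swap 8 9

/-- swap of the quads -/
def qb : Perm (Fin 11) := swap 0 4 * swap 1 5 * swap 2 6 * swap 3 7

/-- swaps inside both quads -/
def qc : Perm (Fin 11) := swap 0 2 * swap 1 3 * swap 4 6 * swap 5 7

/-- swap inside one quad -/
def qd : Perm (Fin 11) := swap 0 2 * swap 1 3 * swap 6 7 * swap 8 9

theorem pe_even (k : Fin 4) : pe k ∈ alternatingGroup (Fin 11) := by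
  rw [mem_alternatingGroup]; revert k; decide +kernel

theorem qb_even : qb ∈ alternatingGroup (Fin 11) := by rw [mem_alternatingGroup]; decide +kernel
theorem qc_even : qc ∈ alternatingGroup (Fin 11) := by rw [mem_alternatingGroup]; decide +kernel
theorem qd_even : qd ∈ alternatingGroup (Fin 11) := by rw [mem_alternatingGroup]; decide +kernel

/-- the seven basic elements -/
def base : List (alternatingGroup (Fin 11)) :=
  [⟨pe 0, pe_even 0⟩, ⟨pe 1, pe_even 1⟩, ⟨pe 2, pe_even 2⟩, ⟨pe 3, pe_even 3⟩,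
    ⟨qb, qb_even⟩, ⟨qc, qc_even⟩, ⟨qd, qd_even⟩]

/-- the element with bits `v` -/
def nf (v : Fin 128) : alternatingGroup (Fin 11) :=
  ((List.range 7).map fun k => if v.val / 2 ^ k % 2 = 1 then base.getD k 1 else 1).prod

theorem nf_mem (v : Fin 128) : nf v ∈ P := by
  refine Subgroup.list_prod_mem _ fun x hx => ?_
  obtain ⟨k, hk, rfl⟩ := List.mem_map.1 hx
  rw [List.mem_range] at hk
  split
  · have h : ∀ k : Fin 7, ∀ i j, lab ((base.getD k.val 1).val i) ((base.getD k.val 1).val j) = lab i j := by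
      decide +kernel
    exact h ⟨k, hk⟩
  · exact P.one_mem

/-- the images of four points determine an element of `P` -/
def key (σ : Perm (Fin 11)) : Fin 11 × Fin 11 × Fin 11 × Fin 11 := (σ 0, σ 2, σ 4, σ 6)

theorem forced : ∀ i j k : Fin 11, (i.val = 0 ∧ j.val = 1 ∨ i.val = 2 ∧ j.val = 3 ∨ i.val = 4 ∧ j.val = 5 ∨
    i.val = 6 ∧ j.val = 7 ∨ i.val = 10 ∧ j.val = 10) → lab i k = lab i j → k = j := by decide +kernel

theorem ten : ∀ k : Fin 11, cls k = 2 → k = 10 := by decide +kernel

theorem eight : ∀ k : Fin 11, cls k = 1 → k = 8 ∨ k = 9 := by decide +kernel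

theorem key_inj {σ τ : alternatingGroup (Fin 11)} (hσ : σ ∈ P) (hτ : τ ∈ P)
    (h : key σ.val = key τ.val) : σ = τ := by
  have hρ : τ⁻¹ * σ ∈ P := P.mul_mem (P.inv_mem hτ) hσ
  set ρ := τ⁻¹ * σ with hρdef
  simp only [key, Prod.mk.injEq] at h
  have hfix : ∀ i : Fin 11, σ.val i = τ.val i → ρ.val i = i := fun i e => by
    show τ.val⁻¹ (σ.val i) = i
    rw [e]; exact τ.val.symm_apply_apply i
  have f0 := hfix 0 h.1
  have f2 := hfix 2 h.2.1
  have f4 := hfix 4 h.2.2.1
  have f6 := hfix 6 h.2.2.2
  have hnext : ∀ i j : Fin 11, ρ.val i = i → (∀ k, lab i k = lab i j → k = j) → ρ.val j = j :=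
    fun i j hi hu => hu _ (by have := hρ i j; rwa [hi] at this)
  have f1 := hnext 0 1 f0 (fun k => forced 0 1 k (by decide))
  have f3 := hnext 2 3 f2 (fun k => forced 2 3 k (by decide))
  have f5 := hnext 4 5 f4 (fun k => forced 4 5 k (by decide))
  have f7 := hnext 6 7 f6 (fun k => forced 6 7 k (by decide))
  have hcls : ∀ i, cls (ρ.val i) = cls i := fun i => by simpa [lab] using hρ i i
  have f10 : ρ.val 10 = 10 := ten _ (by rw [hcls]; decide)
  have h8 := eight (ρ.val 8) (by rw [hcls]; decide)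
  have h9 := eight (ρ.val 9) (by rw [hcls]; decide)
  have h89 : ρ.val 8 ≠ ρ.val 9 := fun e => absurd (ρ.val.injective e) (by decide)
  have hone : ρ = 1 := by
    rcases h8 with h8 | h8 <;> rcases h9 with h9 | h9
    · exact absurd (h8.trans h9.symm) h89
    · refine Subtype.ext (Equiv.ext fun i => ?_)
      fin_cases i <;> assumption
    · exfalso
      have e : ρ.val = swap 8 9 := Equiv.ext fun i => by
        fin_cases i
        · exact f0.trans (by decide)
        · exact f1.trans (by decide)
        · exact f2.trans (by decide)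
        · exact f3.trans (by decide)
        · exact f4.trans (by decide)
        · exact f5.trans (by decide)
        · exact f6.trans (by decide)
        · exact f7.trans (by decide)
        · exact h8.trans (by decide)
        · exact h9.trans (by decide)
        · exact f10.trans (by decide)
      have := ρ.2
      rw [mem_alternatingGroup, e, sign_swap (by decide)] at this
      exact absurd this (by decide)
    · exact absurd (h8.trans h9.symm) h89
  exact (inv_mul_eq_one.1 hone).symm

/-- admissible key -/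
def okKey (q : Fin 11 × Fin 11 × Fin 11 × Fin 11) : Bool :=
  decide (lab q.1 q.1 = 0 ∧ lab q.1 q.2.1 = 11 ∧ lab q.1 q.2.2.1 = 12 ∧ lab q.1 q.2.2.2 = 12 ∧
    lab q.2.2.1 q.2.2.2 = 11)

theorem keys_card : (Finset.univ.filter fun q => okKey q = true).card = 128 := by decide +kernel

theorem nf_keys : ((List.finRange 128).map fun v => key (nf v).val).Nodup := by decide +kernel

theorem exists_nf {σ : alternatingGroup (Fin 11)} (hσ : σ ∈ P) : ∃ v, nf v = σ := by
  classical
  let S := Finset.univ.filter fun q => okKey q = true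
  have hok : ∀ {τ : alternatingGroup (Fin 11)}, τ ∈ P → key τ.val ∈ S := fun {τ} h => by
    simp only [S, Finset.mem_filter, Finset.mem_univ, true_and, okKey, key, decide_eq_true_eq, h _ _]
    decide
  have hsub : ((List.finRange 128).map fun v => key (nf v).val).toFinset ⊆ S := fun q hq => by
    obtain ⟨v, -, rfl⟩ := List.mem_map.1 (List.mem_toFinset.1 hq)
    exact hok (nf_mem v)
  have heq := Finset.eq_of_subset_of_card_le hsub (by
    rw [List.toFinset_card_of_nodup nf_keys, List.length_map, List.length_finRange]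
    exact keys_card.le)
  have h := hok hσ
  rw [← heq, List.mem_toFinset, List.mem_map] at h
  obtain ⟨v, -, hv⟩ := h
  exact ⟨v, key_inj (nf_mem v) hσ hv⟩

theorem card_P : Nat.card P = 128 := by
  refine (Nat.card_eq_of_bijective (fun v => (⟨nf v, nf_mem v⟩ : P)) ⟨fun v w h => ?_, fun σ => ?_⟩).symm.trans
    (Nat.card_fin 128)
  · have e := congrArg (fun x : P => key x.val.val) h
    exact List.inj_on_of_nodup_map nf_keys (List.mem_finRange v) (List.mem_finRange w) e
  · obtain ⟨v, hv⟩ := exists_nf σ.2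
    exact ⟨v, Subtype.ext hv⟩

theorem P_le_closure : P ≤ Subgroup.closure {x | x ∈ base} := by
  intro σ hσ
  obtain ⟨v, rfl⟩ := exists_nf hσ
  refine Subgroup.list_prod_mem _ fun x hx => ?_
  obtain ⟨k, hk, rfl⟩ := List.mem_map.1 hx
  rw [List.mem_range] at hk
  split
  · refine Subgroup.subset_closure ?_
    show base.getD k 1 ∈ base
    rw [List.getD_eq_getElem _ _ hk]
    exact List.getElem_mem hk
  · exact one_mem _

/-- fixed points of the stabiliser -/
def r1 (i j : Fin 11) : Bool :=
  decide (i = j ∨ j.val = 10 ∨ (i.val < 8 ∧ j.val < 8 ∧ i.val / 2 = j.val / 2) ∨ (cls i = 1 ∧ cls j = 1))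

/-- orbits of length at most two of the stabiliser -/
def r2 (i j : Fin 11) : Bool :=
  decide (i = j ∨ 8 ≤ j.val ∨ (i.val < 8 ∧ j.val < 8 ∧ i.val / 4 = j.val / 4))

theorem r1_iff : ∀ i j : Fin 11, r1 i j = true ↔ ∀ v, (nf v).val i = i → (nf v).val j = j := by decide +kernel

theorem r2_iff : ∀ i j : Fin 11, r2 i j = true ↔
    ∀ v, (nf v).val i = i → (nf v).val ((nf v).val j) = j := by decide +kernel

theorem r3_iff : ∀ i j : Fin 11, cls i = cls j ↔ ∃ v, (nf v).val i = j := by decide +kernel

theorem cls_two : ∀ i : Fin 11, cls i = 2 ↔ ∀ j, cls i = cls j → i = j := by decide +kernel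

theorem cls_zero : ∀ i : Fin 11, cls i = 0 ↔ ∃ j, cls i = cls j ∧ r1 i j = false := by decide +kernel

theorem lab_det : ∀ i j k l : Fin 11, cls k = cls i → cls l = cls j → r1 k l = r1 i j → r2 k l = r2 i j →
    (k = l ↔ i = j) → lab k l = lab i j := by decide +kernel

/-- `P` is self-normalising. -/
theorem mem_of_normalizes {σ : alternatingGroup (Fin 11)}
    (h : ∀ π, π ∈ P ↔ σ * π * σ⁻¹ ∈ P) : σ ∈ P := by
  have hfwd : ∀ v, ∃ w, ∀ i, (nf w).val (σ.val i) = σ.val ((nf v).val i) := fun v => by
    obtain ⟨w, hw⟩ := exists_nf ((h _).1 (nf_mem v))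
    refine ⟨w, fun i => ?_⟩
    rw [hw]
    show σ.val ((nf v).val (σ.val⁻¹ (σ.val i))) = _
    rw [show σ.val⁻¹ (σ.val i) = i from σ.val.symm_apply_apply i]
  have hbwd : ∀ w, ∃ v, ∀ i, (nf w).val (σ.val i) = σ.val ((nf v).val i) := fun w => by
    have hm : σ⁻¹ * nf w * σ ∈ P := (h _).2 (by
      rw [show σ * (σ⁻¹ * nf w * σ) * σ⁻¹ = nf w by group]
      exact nf_mem w)
    obtain ⟨v, hv⟩ := exists_nf hm
    refine ⟨v, fun i => ?_⟩
    rw [hv]
    show _ = σ.val (σ.val⁻¹ ((nf w).val (σ.val i)))
    exact (σ.val.apply_symm_apply _).symm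
  have e1 : ∀ i j, r1 (σ.val i) (σ.val j) = r1 i j := fun i j => by
    rw [Bool.eq_iff_iff, r1_iff, r1_iff]
    constructor
    · intro hh v hv
      obtain ⟨w, hw⟩ := hfwd v
      exact σ.val.injective ((hw j).symm.trans (hh w ((hw i).trans (congrArg _ hv))))
    · intro hh w hw'
      obtain ⟨v, hv⟩ := hbwd w
      rw [hv, hh v (σ.val.injective ((hv i).symm.trans hw'))]
  have e2 : ∀ i j, r2 (σ.val i) (σ.val j) = r2 i j := fun i j => by
    rw [Bool.eq_iff_iff, r2_iff, r2_iff]
    constructor
    · intro hh v hv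
      obtain ⟨w, hw⟩ := hfwd v
      have := hh w ((hw i).trans (congrArg _ hv))
      rw [hw, hw] at this
      exact σ.val.injective this
    · intro hh w hw'
      obtain ⟨v, hv⟩ := hbwd w
      rw [hv, hv, hh v (σ.val.injective ((hv i).symm.trans hw'))]
  have e3 : ∀ i j, cls (σ.val i) = cls (σ.val j) ↔ cls i = cls j := fun i j => by
    rw [r3_iff, r3_iff]
    constructor
    · rintro ⟨w, hw⟩
      obtain ⟨v, hv⟩ := hbwd w
      exact ⟨v, σ.val.injective ((hv i).symm.trans hw)⟩
    · rintro ⟨v, hv⟩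
      obtain ⟨w, hw⟩ := hfwd v
      exact ⟨w, (hw i).trans (congrArg _ hv)⟩
  have h2 : ∀ i, cls (σ.val i) = 2 ↔ cls i = 2 := fun i => by
    rw [cls_two, cls_two]
    constructor
    · exact fun hh j hj => σ.val.injective (hh _ ((e3 i j).2 hj))
    · intro hh j hj
      obtain ⟨j, rfl⟩ := σ.val.surjective j
      rw [hh j ((e3 i j).1 hj)]
  have h0 : ∀ i, cls (σ.val i) = 0 ↔ cls i = 0 := fun i => by
    rw [cls_zero, cls_zero]
    constructor
    · rintro ⟨j, hj, hr⟩
      obtain ⟨j, rfl⟩ := σ.val.surjective j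
      exact ⟨j, (e3 i j).1 hj, by rwa [e1] at hr⟩
    · rintro ⟨j, hj, hr⟩
      exact ⟨σ.val j, (e3 i j).2 hj, by rwa [e1]⟩
  have hc : ∀ i, cls (σ.val i) = cls i := fun i => by
    have b : ∀ k : Fin 11, cls k = 0 ∨ cls k = 1 ∨ cls k = 2 := by decide
    have := b i
    have := b (σ.val i)
    have := h0 i
    have := h2 i
    omega
  exact fun i j => lab_det i j _ _ (hc i) (hc j) (e1 i j) (e2 i j) σ.val.injective.eq_iff

/-- the element swapping all four pairs -/
def a1 : Perm (Fin 11) := swap 0 1 * swap 2 3 * swap 4 5 * swap 6 7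

/-- the element swapping three pairs and the outer points -/
def a2 : Perm (Fin 11) := swap 0 1 * swap 2 3 * swap 4 5 * swap 8 9

theorem centre_nf : ∀ v : Fin 128,
    (∀ i, (nf v).val (a2 i) = a2 ((nf v).val i) ∧ (nf v).val (qb i) = qb ((nf v).val i) ∧
      (nf v).val (qc i) = qc ((nf v).val i) ∧ (nf v).val (qd i) = qd ((nf v).val i)) →
    (∀ i, (nf v).val i = i) ∨ ∀ i, (nf v).val i = a1 i := by decide +kernel

end Cfsg.Agent.H37.LyPerm.Syl11
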