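import Cfsg.Agent.H37.LyPerm.Cycles
import Cfsg.Agent.H37.LyPerm.Double
import Cfsg.Agent.H37.LyPerm.Syl11

/-!
Involutions generating a Sylow 2-subgroup of Ly, each conjugate to `a ^ 4`, checked in the representation.
-/

set_option autoImplicit false
set_option Elab.async false
set_option maxRecDepth 100000

namespace Cfsg.Agent.H37.LyPerm

open Cfsg.Agent.H27.LyRep Data111
open Equiv

theorem val_pow {x : Cfsg.Spor.Ly} {A : ℕ} (h : Val x A) : Val (x ^ 1) A := (pow_one x).symm ▸ h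

theorem val_pow_add {x : Cfsg.Spor.Ly} {A B : ℕ} {m n : ℕ} (ha : Val (x ^ m) A) (hb : Val (x ^ n) B) :
    Val (x ^ (m + n)) (mulF 111 A B) := pow_add x m n ▸ val_mul' ha hb

/-- the involutions -/
noncomputable def syl : Fin 5 → Cfsg.Spor.Ly := ![
  c0 * c4 * c3 * c13 * c0 * c4 * c32 * (c58 * c58) * c32,
  c0 * c4 * c3 * c13 * c0 * c4 * c59 * (c63 * c63) * c59,
  c0 * c3 * c32 * c58 * c0 * c3 * c4 * c13,
  c0 * c3 * c4 * c13 * c32 * c58 * c4 * c13,
  c0 * c3 * c32 * c59 * c58 * c63 * c32 * c59]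

theorem v_syl0 : ∃ M, Val (syl 0) M := ⟨_, (val_mul' (val_mul' (val_mul' (val_mul' (val_mul' (val_mul' (val_mul' (val_mul' v_c0 v_c4) v_c3) v_c13) v_c0) v_c4) v_c32) (val_mul' v_c58 v_c58)) v_c32)⟩

theorem syl0_conj (hinj : Function.Injective rho) : ∃ g, g * tI = syl 0 * g := by
  have hs : Val (syl 0) _ := (val_mul' (val_mul' (val_mul' (val_mul' (val_mul' (val_mul' (val_mul' (val_mul' v_c0 v_c4) v_c3) v_c13) v_c0) v_c4) v_c32) (val_mul' v_c58 v_c58)) v_c32)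
  refine ⟨((elt [7,7,1,5] * tI * elt [4,0,6,6]) * (syl 0)) ^ ((((1 + 1) + 1) + ((1 + 1) + 1)) + (((1 + 1) + 1) + ((1 + 1) + 1))) * (tI * (elt [7,7,1,5] * tI * elt [4,0,6,6])) ^ (1 + 1), ?_⟩
  exact eq_of_chk hinj (val_mul' (val_mul' (val_pow_add (val_pow_add (val_pow_add (val_pow_add (val_pow (val_mul' (val_mul' (val_mul' (val_word [7,7,1,5] (Nat.beq_refl _)) v_tI) (val_word [4,0,6,6] (Nat.beq_refl _))) hs)) (val_pow (val_mul' (val_mul' (val_mul' (val_word [7,7,1,5] (Nat.beq_refl _)) v_tI) (val_word [4,0,6,6] (Nat.beq_refl _))) hs))) (val_pow (val_mul' (val_mul' (val_mul' (val_word [7,7,1,5] (Nat.beq_refl _)) v_tI) (val_word [4,0,6,6] (Nat.beq_refl _))) hs))) (val_pow_add (val_pow_add (val_pow (val_mul' (val_mul' (val_mul' (val_word [7,7,1,5] (Nat.beq_refl _)) v_tI) (val_word [4,0,6,6] (Nat.beq_refl _))) hs)) (val_pow (val_mul' (val_mul' (val_mul' (val_word [7,7,1,5] (Nat.beq_refl _)) v_tI) (val_word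 [4,0,6,6] (Nat.beq_refl _))) hs))) (val_pow (val_mul' (val_mul' (val_mul' (val_word [7,7,1,5] (Nat.beq_refl _)) v_tI) (val_word [4,0,6,6] (Nat.beq_refl _))) hs)))) (val_pow_add (val_pow_add (val_pow_add (val_pow (val_mul' (val_mul' (val_mul' (val_word [7,7,1,5] (Nat.beq_refl _)) v_tI) (val_word [4,0,6,6] (Nat.beq_refl _))) hs)) (val_pow (val_mul' (val_mul' (val_mul' (val_word [7,7,1,5] (Nat.beq_refl _)) v_tI) (val_word [4,0,6,6] (Nat.beq_refl _))) hs))) (val_pow (val_mul' (val_mul' (val_mul' (val_word [7,7,1,5] (Nat.beq_refl _)) v_tI) (val_word [4,0,6,6] (Nat.beq_refl _))) hs))) (val_pow_add (val_pow_add (val_pow (val_mul' (val_mul' (val_mul' (val_word [7,7,1,5] (Nat.beq_refl _)) v_tI) (val_word [4,0,6,6] (Nat.beq_refl _))) hs)) (val_pow (val_mul' (val_mul' (val_mul' (val_word [7,7,1,5] (Nat.beq_refl _)) v_tI) (val_word [4,0,6,6] (Nat.beq_refl _))) hs))) (val_pow (val_mul' (val_mul' (val_mul' (val_word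 [7,7,1,5] (Nat.beq_refl _)) v_tI) (val_word [4,0,6,6] (Nat.beq_refl _))) hs))))) (val_pow_add (val_pow (val_mul' v_tI (val_mul' (val_mul' (val_word [7,7,1,5] (Nat.beq_refl _)) v_tI) (val_word [4,0,6,6] (Nat.beq_refl _))))) (val_pow (val_mul' v_tI (val_mul' (val_mul' (val_word [7,7,1,5] (Nat.beq_refl _)) v_tI) (val_word [4,0,6,6] (Nat.beq_refl _))))))) v_tI) (val_mul' hs (val_mul' (val_pow_add (val_pow_add (val_pow_add (val_pow_add (val_pow (val_mul' (val_mul' (val_mul' (val_word [7,7,1,5] (Nat.beq_refl _)) v_tI) (val_word [4,0,6,6] (Nat.beq_refl _))) hs)) (val_pow (val_mul' (val_mul' (val_mul' (val_word [7,7,1,5] (Nat.beq_refl _)) v_tI) (val_word [4,0,6,6] (Nat.beq_refl _))) hs))) (val_pow (val_mul' (val_mul' (val_mul' (val_word [7,7,1,5] (Nat.beq_refl _)) v_tI) (val_word [4,0,6,6] (Nat.beq_refl _))) hs))) (val_pow_add (val_pow_add (val_pow (val_mul' (val_mul' (val_mul' (val_word [7,7,1,5] (Nat.beq_refl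 _)) v_tI) (val_word [4,0,6,6] (Nat.beq_refl _))) hs)) (val_pow (val_mul' (val_mul' (val_mul' (val_word [7,7,1,5] (Nat.beq_refl _)) v_tI) (val_word [4,0,6,6] (Nat.beq_refl _))) hs))) (val_pow (val_mul' (val_mul' (val_mul' (val_word [7,7,1,5] (Nat.beq_refl _)) v_tI) (val_word [4,0,6,6] (Nat.beq_refl _))) hs)))) (val_pow_add (val_pow_add (val_pow_add (val_pow (val_mul' (val_mul' (val_mul' (val_word [7,7,1,5] (Nat.beq_refl _)) v_tI) (val_word [4,0,6,6] (Nat.beq_refl _))) hs)) (val_pow (val_mul' (val_mul' (val_mul' (val_word [7,7,1,5] (Nat.beq_refl _)) v_tI) (val_word [4,0,6,6] (Nat.beq_refl _))) hs))) (val_pow (val_mul' (val_mul' (val_mul' (val_word [7,7,1,5] (Nat.beq_refl _)) v_tI) (val_word [4,0,6,6] (Nat.beq_refl _))) hs))) (val_pow_add (val_pow_add (val_pow (val_mul' (val_mul' (val_mul' (val_word [7,7,1,5] (Nat.beq_refl _)) v_tI) (val_word [4,0,6,6] (Nat.beq_refl _))) hs)) (val_pow (val_mul' (val_mul'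 (val_mul' (val_word [7,7,1,5] (Nat.beq_refl _)) v_tI) (val_word [4,0,6,6] (Nat.beq_refl _))) hs))) (val_pow (val_mul' (val_mul' (val_mul' (val_word [7,7,1,5] (Nat.beq_refl _)) v_tI) (val_word [4,0,6,6] (Nat.beq_refl _))) hs))))) (val_pow_add (val_pow (val_mul' v_tI (val_mul' (val_mul' (val_word [7,7,1,5] (Nat.beq_refl _)) v_tI) (val_word [4,0,6,6] (Nat.beq_refl _))))) (val_pow (val_mul' v_tI (val_mul' (val_mul' (val_word [7,7,1,5] (Nat.beq_refl _)) v_tI) (val_word [4,0,6,6] (Nat.beq_refl _)))))))) (by decide +kernel)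

theorem v_syl1 : ∃ M, Val (syl 1) M := ⟨_, (val_mul' (val_mul' (val_mul' (val_mul' (val_mul' (val_mul' (val_mul' (val_mul' v_c0 v_c4) v_c3) v_c13) v_c0) v_c4) v_c59) (val_mul' v_c63 v_c63)) v_c59)⟩

theorem syl1_conj (hinj : Function.Injective rho) : ∃ g, g * tI = syl 1 * g := by
  have hs : Val (syl 1) _ := (val_mul' (val_mul' (val_mul' (val_mul' (val_mul' (val_mul' (val_mul' (val_mul' v_c0 v_c4) v_c3) v_c13) v_c0) v_c4) v_c59) (val_mul' v_c63 v_c63)) v_c59)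
  refine ⟨((elt [5,9,9,3,1,5,9] * tI * elt [8,4,0,2,8,8,4]) * (syl 1)) ^ ((((1 + 1) + (1 + 1)) + 1) + (((1 + 1) + (1 + 1)) + 1)) * (tI * (elt [5,9,9,3,1,5,9] * tI * elt [8,4,0,2,8,8,4])) ^ (1 + 1), ?_⟩
  exact eq_of_chk hinj (val_mul' (val_mul' (val_pow_add (val_pow_add (val_pow_add (val_pow_add (val_pow (val_mul' (val_mul' (val_mul' (val_word [5,9,9,3,1,5,9] (Nat.beq_refl _)) v_tI) (val_word [8,4,0,2,8,8,4] (Nat.beq_refl _))) hs)) (val_pow (val_mul' (val_mul' (val_mul' (val_word [5,9,9,3,1,5,9] (Nat.beq_refl _)) v_tI) (val_word [8,4,0,2,8,8,4] (Nat.beq_refl _))) hs))) (val_pow_add (val_pow (val_mul' (val_mul' (val_mul' (val_word [5,9,9,3,1,5,9] (Nat.beq_refl _)) v_tI) (val_word [8,4,0,2,8,8,4] (Nat.beq_refl _))) hs)) (val_pow (val_mul' (val_mul' (val_mul' (val_word [5,9,9,3,1,5,9] (Nat.beq_refl _)) v_tI) (val_word [8,4,0,2,8,8,4] (Nat.beq_refl _))) hs)))) (val_pow (val_mul' (val_mul' (val_mul' (val_word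 [5,9,9,3,1,5,9] (Nat.beq_refl _)) v_tI) (val_word [8,4,0,2,8,8,4] (Nat.beq_refl _))) hs))) (val_pow_add (val_pow_add (val_pow_add (val_pow (val_mul' (val_mul' (val_mul' (val_word [5,9,9,3,1,5,9] (Nat.beq_refl _)) v_tI) (val_word [8,4,0,2,8,8,4] (Nat.beq_refl _))) hs)) (val_pow (val_mul' (val_mul' (val_mul' (val_word [5,9,9,3,1,5,9] (Nat.beq_refl _)) v_tI) (val_word [8,4,0,2,8,8,4] (Nat.beq_refl _))) hs))) (val_pow_add (val_pow (val_mul' (val_mul' (val_mul' (val_word [5,9,9,3,1,5,9] (Nat.beq_refl _)) v_tI) (val_word [8,4,0,2,8,8,4] (Nat.beq_refl _))) hs)) (val_pow (val_mul' (val_mul' (val_mul' (val_word [5,9,9,3,1,5,9] (Nat.beq_refl _)) v_tI) (val_word [8,4,0,2,8,8,4] (Nat.beq_refl _))) hs)))) (val_pow (val_mul' (val_mul' (val_mul' (val_word [5,9,9,3,1,5,9] (Nat.beq_refl _)) v_tI) (val_word [8,4,0,2,8,8,4] (Nat.beq_refl _))) hs)))) (val_pow_add (val_pow (val_mul' v_tI (val_mul' (val_mul' (val_word [5,9,9,3,1,5,9]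 (Nat.beq_refl _)) v_tI) (val_word [8,4,0,2,8,8,4] (Nat.beq_refl _))))) (val_pow (val_mul' v_tI (val_mul' (val_mul' (val_word [5,9,9,3,1,5,9] (Nat.beq_refl _)) v_tI) (val_word [8,4,0,2,8,8,4] (Nat.beq_refl _))))))) v_tI) (val_mul' hs (val_mul' (val_pow_add (val_pow_add (val_pow_add (val_pow_add (val_pow (val_mul' (val_mul' (val_mul' (val_word [5,9,9,3,1,5,9] (Nat.beq_refl _)) v_tI) (val_word [8,4,0,2,8,8,4] (Nat.beq_refl _))) hs)) (val_pow (val_mul' (val_mul' (val_mul' (val_word [5,9,9,3,1,5,9] (Nat.beq_refl _)) v_tI) (val_word [8,4,0,2,8,8,4] (Nat.beq_refl _))) hs))) (val_pow_add (val_pow (val_mul' (val_mul' (val_mul' (val_word [5,9,9,3,1,5,9] (Nat.beq_refl _)) v_tI) (val_word [8,4,0,2,8,8,4] (Nat.beq_refl _))) hs)) (val_pow (val_mul' (val_mul' (val_mul' (val_word [5,9,9,3,1,5,9] (Nat.beq_refl _)) v_tI) (val_word [8,4,0,2,8,8,4] (Nat.beq_refl _))) hs)))) (val_pow (val_mul' (val_mul' (val_mul' (val_word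 [5,9,9,3,1,5,9] (Nat.beq_refl _)) v_tI) (val_word [8,4,0,2,8,8,4] (Nat.beq_refl _))) hs))) (val_pow_add (val_pow_add (val_pow_add (val_pow (val_mul' (val_mul' (val_mul' (val_word [5,9,9,3,1,5,9] (Nat.beq_refl _)) v_tI) (val_word [8,4,0,2,8,8,4] (Nat.beq_refl _))) hs)) (val_pow (val_mul' (val_mul' (val_mul' (val_word [5,9,9,3,1,5,9] (Nat.beq_refl _)) v_tI) (val_word [8,4,0,2,8,8,4] (Nat.beq_refl _))) hs))) (val_pow_add (val_pow (val_mul' (val_mul' (val_mul' (val_word [5,9,9,3,1,5,9] (Nat.beq_refl _)) v_tI) (val_word [8,4,0,2,8,8,4] (Nat.beq_refl _))) hs)) (val_pow (val_mul' (val_mul' (val_mul' (val_word [5,9,9,3,1,5,9] (Nat.beq_refl _)) v_tI) (val_word [8,4,0,2,8,8,4] (Nat.beq_refl _))) hs)))) (val_pow (val_mul' (val_mul' (val_mul' (val_word [5,9,9,3,1,5,9] (Nat.beq_refl _)) v_tI) (val_word [8,4,0,2,8,8,4] (Nat.beq_refl _))) hs)))) (val_pow_add (val_pow (val_mul' v_tI (val_mul' (val_mul' (val_word [5,9,9,3,1,5,9]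 (Nat.beq_refl _)) v_tI) (val_word [8,4,0,2,8,8,4] (Nat.beq_refl _))))) (val_pow (val_mul' v_tI (val_mul' (val_mul' (val_word [5,9,9,3,1,5,9] (Nat.beq_refl _)) v_tI) (val_word [8,4,0,2,8,8,4] (Nat.beq_refl _)))))))) (by decide +kernel)

theorem v_syl2 : ∃ M, Val (syl 2) M := ⟨_, (val_mul' (val_mul' (val_mul' (val_mul' (val_mul' (val_mul' (val_mul' v_c0 v_c3) v_c32) v_c58) v_c0) v_c3) v_c4) v_c13)⟩

theorem syl2_conj (hinj : Function.Injective rho) : ∃ g, g * tI = syl 2 * g := by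
  have hs : Val (syl 2) _ := (val_mul' (val_mul' (val_mul' (val_mul' (val_mul' (val_mul' (val_mul' v_c0 v_c3) v_c32) v_c58) v_c0) v_c3) v_c4) v_c13)
  refine ⟨((elt [5,7,3] * tI * elt [2,6,4]) * (syl 2)) ^ ((((((1 + 1) + (1 + 1)) + ((1 + 1) + (1 + 1))) + (((1 + 1) + (1 + 1)) + ((1 + 1) + (1 + 1)))) + ((((1 + 1) + (1 + 1)) + ((1 + 1) + (1 + 1))) + (((1 + 1) + (1 + 1)) + ((1 + 1) + (1 + 1))))) + 1) * (tI * (elt [5,7,3] * tI * elt [2,6,4])) ^ (1 + 1), ?_⟩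
  exact eq_of_chk hinj (val_mul' (val_mul' (val_pow_add (val_pow_add (val_pow_add (val_pow_add (val_pow_add (val_pow_add (val_pow (val_mul' (val_mul' (val_mul' (val_word [5,7,3] (Nat.beq_refl _)) v_tI) (val_word [2,6,4] (Nat.beq_refl _))) hs)) (val_pow (val_mul' (val_mul' (val_mul' (val_word [5,7,3] (Nat.beq_refl _)) v_tI) (val_word [2,6,4] (Nat.beq_refl _))) hs))) (val_pow_add (val_pow (val_mul' (val_mul' (val_mul' (val_word [5,7,3] (Nat.beq_refl _)) v_tI) (val_word [2,6,4] (Nat.beq_refl _))) hs)) (val_pow (val_mul' (val_mul' (val_mul' (val_word [5,7,3] (Nat.beq_refl _)) v_tI) (val_word [2,6,4] (Nat.beq_refl _))) hs)))) (val_pow_add (val_pow_add (val_pow (val_mul' (val_mul' (val_mul' (val_word [5,7,3] (Nat.beq_refl _)) v_tI) (val_word [2,6,4] (Nat.beq_refl _))) hs)) (val_pow (val_mul' (val_mul' (val_mul' (val_word [5,7,3] (Nat.beq_refl _)) v_tI) (val_word [2,6,4] (Nat.beq_refl _))) hs))) (val_pow_add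 (val_pow (val_mul' (val_mul' (val_mul' (val_word [5,7,3] (Nat.beq_refl _)) v_tI) (val_word [2,6,4] (Nat.beq_refl _))) hs)) (val_pow (val_mul' (val_mul' (val_mul' (val_word [5,7,3] (Nat.beq_refl _)) v_tI) (val_word [2,6,4] (Nat.beq_refl _))) hs))))) (val_pow_add (val_pow_add (val_pow_add (val_pow (val_mul' (val_mul' (val_mul' (val_word [5,7,3] (Nat.beq_refl _)) v_tI) (val_word [2,6,4] (Nat.beq_refl _))) hs)) (val_pow (val_mul' (val_mul' (val_mul' (val_word [5,7,3] (Nat.beq_refl _)) v_tI) (val_word [2,6,4] (Nat.beq_refl _))) hs))) (val_pow_add (val_pow (val_mul' (val_mul' (val_mul' (val_word [5,7,3] (Nat.beq_refl _)) v_tI) (val_word [2,6,4] (Nat.beq_refl _))) hs)) (val_pow (val_mul' (val_mul' (val_mul' (val_word [5,7,3] (Nat.beq_refl _)) v_tI) (val_word [2,6,4] (Nat.beq_refl _))) hs)))) (val_pow_add (val_pow_add (val_pow (val_mul' (val_mul' (val_mul' (val_word [5,7,3] (Nat.beq_refl _)) v_tI) (val_word [2,6,4]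 (Nat.beq_refl _))) hs)) (val_pow (val_mul' (val_mul' (val_mul' (val_word [5,7,3] (Nat.beq_refl _)) v_tI) (val_word [2,6,4] (Nat.beq_refl _))) hs))) (val_pow_add (val_pow (val_mul' (val_mul' (val_mul' (val_word [5,7,3] (Nat.beq_refl _)) v_tI) (val_word [2,6,4] (Nat.beq_refl _))) hs)) (val_pow (val_mul' (val_mul' (val_mul' (val_word [5,7,3] (Nat.beq_refl _)) v_tI) (val_word [2,6,4] (Nat.beq_refl _))) hs)))))) (val_pow_add (val_pow_add (val_pow_add (val_pow_add (val_pow (val_mul' (val_mul' (val_mul' (val_word [5,7,3] (Nat.beq_refl _)) v_tI) (val_word [2,6,4] (Nat.beq_refl _))) hs)) (val_pow (val_mul' (val_mul' (val_mul' (val_word [5,7,3] (Nat.beq_refl _)) v_tI) (val_word [2,6,4] (Nat.beq_refl _))) hs))) (val_pow_add (val_pow (val_mul' (val_mul' (val_mul' (val_word [5,7,3] (Nat.beq_refl _)) v_tI) (val_word [2,6,4] (Nat.beq_refl _))) hs)) (val_pow (val_mul' (val_mul' (val_mul' (val_word [5,7,3] (Nat.beq_refl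 _)) v_tI) (val_word [2,6,4] (Nat.beq_refl _))) hs)))) (val_pow_add (val_pow_add (val_pow (val_mul' (val_mul' (val_mul' (val_word [5,7,3] (Nat.beq_refl _)) v_tI) (val_word [2,6,4] (Nat.beq_refl _))) hs)) (val_pow (val_mul' (val_mul' (val_mul' (val_word [5,7,3] (Nat.beq_refl _)) v_tI) (val_word [2,6,4] (Nat.beq_refl _))) hs))) (val_pow_add (val_pow (val_mul' (val_mul' (val_mul' (val_word [5,7,3] (Nat.beq_refl _)) v_tI) (val_word [2,6,4] (Nat.beq_refl _))) hs)) (val_pow (val_mul' (val_mul' (val_mul' (val_word [5,7,3] (Nat.beq_refl _)) v_tI) (val_word [2,6,4] (Nat.beq_refl _))) hs))))) (val_pow_add (val_pow_add (val_pow_add (val_pow (val_mul' (val_mul' (val_mul' (val_word [5,7,3] (Nat.beq_refl _)) v_tI) (val_word [2,6,4] (Nat.beq_refl _))) hs)) (val_pow (val_mul' (val_mul' (val_mul' (val_word [5,7,3] (Nat.beq_refl _)) v_tI) (val_word [2,6,4] (Nat.beq_refl _))) hs))) (val_pow_add (val_pow (val_mul' (val_mul'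 (val_mul' (val_word [5,7,3] (Nat.beq_refl _)) v_tI) (val_word [2,6,4] (Nat.beq_refl _))) hs)) (val_pow (val_mul' (val_mul' (val_mul' (val_word [5,7,3] (Nat.beq_refl _)) v_tI) (val_word [2,6,4] (Nat.beq_refl _))) hs)))) (val_pow_add (val_pow_add (val_pow (val_mul' (val_mul' (val_mul' (val_word [5,7,3] (Nat.beq_refl _)) v_tI) (val_word [2,6,4] (Nat.beq_refl _))) hs)) (val_pow (val_mul' (val_mul' (val_mul' (val_word [5,7,3] (Nat.beq_refl _)) v_tI) (val_word [2,6,4] (Nat.beq_refl _))) hs))) (val_pow_add (val_pow (val_mul' (val_mul' (val_mul' (val_word [5,7,3] (Nat.beq_refl _)) v_tI) (val_word [2,6,4] (Nat.beq_refl _))) hs)) (val_pow (val_mul' (val_mul' (val_mul' (val_word [5,7,3] (Nat.beq_refl _)) v_tI) (val_word [2,6,4] (Nat.beq_refl _))) hs))))))) (val_pow (val_mul' (val_mul' (val_mul' (val_word [5,7,3] (Nat.beq_refl _)) v_tI) (val_word [2,6,4] (Nat.beq_refl _))) hs))) (val_pow_add (val_pow (val_mul' v_tI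 (val_mul' (val_mul' (val_word [5,7,3] (Nat.beq_refl _)) v_tI) (val_word [2,6,4] (Nat.beq_refl _))))) (val_pow (val_mul' v_tI (val_mul' (val_mul' (val_word [5,7,3] (Nat.beq_refl _)) v_tI) (val_word [2,6,4] (Nat.beq_refl _))))))) v_tI) (val_mul' hs (val_mul' (val_pow_add (val_pow_add (val_pow_add (val_pow_add (val_pow_add (val_pow_add (val_pow (val_mul' (val_mul' (val_mul' (val_word [5,7,3] (Nat.beq_refl _)) v_tI) (val_word [2,6,4] (Nat.beq_refl _))) hs)) (val_pow (val_mul' (val_mul' (val_mul' (val_word [5,7,3] (Nat.beq_refl _)) v_tI) (val_word [2,6,4] (Nat.beq_refl _))) hs))) (val_pow_add (val_pow (val_mul' (val_mul' (val_mul' (val_word [5,7,3] (Nat.beq_refl _)) v_tI) (val_word [2,6,4] (Nat.beq_refl _))) hs)) (val_pow (val_mul' (val_mul' (val_mul' (val_word [5,7,3] (Nat.beq_refl _)) v_tI) (val_word [2,6,4] (Nat.beq_refl _))) hs)))) (val_pow_add (val_pow_add (val_pow (val_mul' (val_mul' (val_mul' (val_word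 [5,7,3] (Nat.beq_refl _)) v_tI) (val_word [2,6,4] (Nat.beq_refl _))) hs)) (val_pow (val_mul' (val_mul' (val_mul' (val_word [5,7,3] (Nat.beq_refl _)) v_tI) (val_word [2,6,4] (Nat.beq_refl _))) hs))) (val_pow_add (val_pow (val_mul' (val_mul' (val_mul' (val_word [5,7,3] (Nat.beq_refl _)) v_tI) (val_word [2,6,4] (Nat.beq_refl _))) hs)) (val_pow (val_mul' (val_mul' (val_mul' (val_word [5,7,3] (Nat.beq_refl _)) v_tI) (val_word [2,6,4] (Nat.beq_refl _))) hs))))) (val_pow_add (val_pow_add (val_pow_add (val_pow (val_mul' (val_mul' (val_mul' (val_word [5,7,3] (Nat.beq_refl _)) v_tI) (val_word [2,6,4] (Nat.beq_refl _))) hs)) (val_pow (val_mul' (val_mul' (val_mul' (val_word [5,7,3] (Nat.beq_refl _)) v_tI) (val_word [2,6,4] (Nat.beq_refl _))) hs))) (val_pow_add (val_pow (val_mul' (val_mul' (val_mul' (val_word [5,7,3] (Nat.beq_refl _)) v_tI) (val_word [2,6,4] (Nat.beq_refl _))) hs)) (val_pow (val_mul' (val_mul' (val_mul'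 (val_word [5,7,3] (Nat.beq_refl _)) v_tI) (val_word [2,6,4] (Nat.beq_refl _))) hs)))) (val_pow_add (val_pow_add (val_pow (val_mul' (val_mul' (val_mul' (val_word [5,7,3] (Nat.beq_refl _)) v_tI) (val_word [2,6,4] (Nat.beq_refl _))) hs)) (val_pow (val_mul' (val_mul' (val_mul' (val_word [5,7,3] (Nat.beq_refl _)) v_tI) (val_word [2,6,4] (Nat.beq_refl _))) hs))) (val_pow_add (val_pow (val_mul' (val_mul' (val_mul' (val_word [5,7,3] (Nat.beq_refl _)) v_tI) (val_word [2,6,4] (Nat.beq_refl _))) hs)) (val_pow (val_mul' (val_mul' (val_mul' (val_word [5,7,3] (Nat.beq_refl _)) v_tI) (val_word [2,6,4] (Nat.beq_refl _))) hs)))))) (val_pow_add (val_pow_add (val_pow_add (val_pow_add (val_pow (val_mul' (val_mul' (val_mul' (val_word [5,7,3] (Nat.beq_refl _)) v_tI) (val_word [2,6,4] (Nat.beq_refl _))) hs)) (val_pow (val_mul' (val_mul' (val_mul' (val_word [5,7,3] (Nat.beq_refl _)) v_tI) (val_word [2,6,4] (Nat.beq_refl _)))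 hs))) (val_pow_add (val_pow (val_mul' (val_mul' (val_mul' (val_word [5,7,3] (Nat.beq_refl _)) v_tI) (val_word [2,6,4] (Nat.beq_refl _))) hs)) (val_pow (val_mul' (val_mul' (val_mul' (val_word [5,7,3] (Nat.beq_refl _)) v_tI) (val_word [2,6,4] (Nat.beq_refl _))) hs)))) (val_pow_add (val_pow_add (val_pow (val_mul' (val_mul' (val_mul' (val_word [5,7,3] (Nat.beq_refl _)) v_tI) (val_word [2,6,4] (Nat.beq_refl _))) hs)) (val_pow (val_mul' (val_mul' (val_mul' (val_word [5,7,3] (Nat.beq_refl _)) v_tI) (val_word [2,6,4] (Nat.beq_refl _))) hs))) (val_pow_add (val_pow (val_mul' (val_mul' (val_mul' (val_word [5,7,3] (Nat.beq_refl _)) v_tI) (val_word [2,6,4] (Nat.beq_refl _))) hs)) (val_pow (val_mul' (val_mul' (val_mul' (val_word [5,7,3] (Nat.beq_refl _)) v_tI) (val_word [2,6,4] (Nat.beq_refl _))) hs))))) (val_pow_add (val_pow_add (val_pow_add (val_pow (val_mul' (val_mul' (val_mul' (val_word [5,7,3] (Nat.beq_refl _))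 v_tI) (val_word [2,6,4] (Nat.beq_refl _))) hs)) (val_pow (val_mul' (val_mul' (val_mul' (val_word [5,7,3] (Nat.beq_refl _)) v_tI) (val_word [2,6,4] (Nat.beq_refl _))) hs))) (val_pow_add (val_pow (val_mul' (val_mul' (val_mul' (val_word [5,7,3] (Nat.beq_refl _)) v_tI) (val_word [2,6,4] (Nat.beq_refl _))) hs)) (val_pow (val_mul' (val_mul' (val_mul' (val_word [5,7,3] (Nat.beq_refl _)) v_tI) (val_word [2,6,4] (Nat.beq_refl _))) hs)))) (val_pow_add (val_pow_add (val_pow (val_mul' (val_mul' (val_mul' (val_word [5,7,3] (Nat.beq_refl _)) v_tI) (val_word [2,6,4] (Nat.beq_refl _))) hs)) (val_pow (val_mul' (val_mul' (val_mul' (val_word [5,7,3] (Nat.beq_refl _)) v_tI) (val_word [2,6,4] (Nat.beq_refl _))) hs))) (val_pow_add (val_pow (val_mul' (val_mul' (val_mul' (val_word [5,7,3] (Nat.beq_refl _)) v_tI) (val_word [2,6,4] (Nat.beq_refl _))) hs)) (val_pow (val_mul' (val_mul' (val_mul' (val_word [5,7,3] (Nat.beq_refl _))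 v_tI) (val_word [2,6,4] (Nat.beq_refl _))) hs))))))) (val_pow (val_mul' (val_mul' (val_mul' (val_word [5,7,3] (Nat.beq_refl _)) v_tI) (val_word [2,6,4] (Nat.beq_refl _))) hs))) (val_pow_add (val_pow (val_mul' v_tI (val_mul' (val_mul' (val_word [5,7,3] (Nat.beq_refl _)) v_tI) (val_word [2,6,4] (Nat.beq_refl _))))) (val_pow (val_mul' v_tI (val_mul' (val_mul' (val_word [5,7,3] (Nat.beq_refl _)) v_tI) (val_word [2,6,4] (Nat.beq_refl _)))))))) (by decide +kernel)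

theorem v_syl3 : ∃ M, Val (syl 3) M := ⟨_, (val_mul' (val_mul' (val_mul' (val_mul' (val_mul' (val_mul' (val_mul' v_c0 v_c3) v_c4) v_c13) v_c32) v_c58) v_c4) v_c13)⟩

theorem syl3_conj (hinj : Function.Injective rho) : ∃ g, g * tI = syl 3 * g := by
  have hs : Val (syl 3) _ := (val_mul' (val_mul' (val_mul' (val_mul' (val_mul' (val_mul' (val_mul' v_c0 v_c3) v_c4) v_c13) v_c32) v_c58) v_c4) v_c13)
  refine ⟨((elt [5,9] * tI * elt [8,4]) * (syl 3)) ^ ((((((1 + 1) + 1) + ((1 + 1) + 1)) + 1) + ((((1 + 1) + 1) + ((1 + 1) + 1)) + 1)) + 1) * (tI * (elt [5,9] * tI * elt [8,4])) ^ (1 + 1), ?_⟩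
  exact eq_of_chk hinj (val_mul' (val_mul' (val_pow_add (val_pow_add (val_pow_add (val_pow_add (val_pow_add (val_pow_add (val_pow (val_mul' (val_mul' (val_mul' (val_word [5,9] (Nat.beq_refl _)) v_tI) (val_word [8,4] (Nat.beq_refl _))) hs)) (val_pow (val_mul' (val_mul' (val_mul' (val_word [5,9] (Nat.beq_refl _)) v_tI) (val_word [8,4] (Nat.beq_refl _))) hs))) (val_pow (val_mul' (val_mul' (val_mul' (val_word [5,9] (Nat.beq_refl _)) v_tI) (val_word [8,4] (Nat.beq_refl _))) hs))) (val_pow_add (val_pow_add (val_pow (val_mul' (val_mul' (val_mul' (val_word [5,9] (Nat.beq_refl _)) v_tI) (val_word [8,4] (Nat.beq_refl _))) hs)) (val_pow (val_mul' (val_mul' (val_mul' (val_word [5,9] (Nat.beq_refl _)) v_tI) (val_word [8,4] (Nat.beq_refl _))) hs))) (val_pow (val_mul' (val_mul' (val_mul' (val_word [5,9] (Nat.beq_refl _)) v_tI) (val_word [8,4] (Nat.beq_refl _))) hs)))) (val_pow (val_mul' (val_mul' (val_mul' (val_word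 [5,9] (Nat.beq_refl _)) v_tI) (val_word [8,4] (Nat.beq_refl _))) hs))) (val_pow_add (val_pow_add (val_pow_add (val_pow_add (val_pow (val_mul' (val_mul' (val_mul' (val_word [5,9] (Nat.beq_refl _)) v_tI) (val_word [8,4] (Nat.beq_refl _))) hs)) (val_pow (val_mul' (val_mul' (val_mul' (val_word [5,9] (Nat.beq_refl _)) v_tI) (val_word [8,4] (Nat.beq_refl _))) hs))) (val_pow (val_mul' (val_mul' (val_mul' (val_word [5,9] (Nat.beq_refl _)) v_tI) (val_word [8,4] (Nat.beq_refl _))) hs))) (val_pow_add (val_pow_add (val_pow (val_mul' (val_mul' (val_mul' (val_word [5,9] (Nat.beq_refl _)) v_tI) (val_word [8,4] (Nat.beq_refl _))) hs)) (val_pow (val_mul' (val_mul' (val_mul' (val_word [5,9] (Nat.beq_refl _)) v_tI) (val_word [8,4] (Nat.beq_refl _))) hs))) (val_pow (val_mul' (val_mul' (val_mul' (val_word [5,9] (Nat.beq_refl _)) v_tI) (val_word [8,4] (Nat.beq_refl _))) hs)))) (val_pow (val_mul' (val_mul' (val_mul' (val_word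 [5,9] (Nat.beq_refl _)) v_tI) (val_word [8,4] (Nat.beq_refl _))) hs)))) (val_pow (val_mul' (val_mul' (val_mul' (val_word [5,9] (Nat.beq_refl _)) v_tI) (val_word [8,4] (Nat.beq_refl _))) hs))) (val_pow_add (val_pow (val_mul' v_tI (val_mul' (val_mul' (val_word [5,9] (Nat.beq_refl _)) v_tI) (val_word [8,4] (Nat.beq_refl _))))) (val_pow (val_mul' v_tI (val_mul' (val_mul' (val_word [5,9] (Nat.beq_refl _)) v_tI) (val_word [8,4] (Nat.beq_refl _))))))) v_tI) (val_mul' hs (val_mul' (val_pow_add (val_pow_add (val_pow_add (val_pow_add (val_pow_add (val_pow_add (val_pow (val_mul' (val_mul' (val_mul' (val_word [5,9] (Nat.beq_refl _)) v_tI) (val_word [8,4] (Nat.beq_refl _))) hs)) (val_pow (val_mul' (val_mul' (val_mul' (val_word [5,9] (Nat.beq_refl _)) v_tI) (val_word [8,4] (Nat.beq_refl _))) hs))) (val_pow (val_mul' (val_mul' (val_mul' (val_word [5,9] (Nat.beq_refl _)) v_tI) (val_word [8,4] (Nat.beq_refl _))) hs)))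 (val_pow_add (val_pow_add (val_pow (val_mul' (val_mul' (val_mul' (val_word [5,9] (Nat.beq_refl _)) v_tI) (val_word [8,4] (Nat.beq_refl _))) hs)) (val_pow (val_mul' (val_mul' (val_mul' (val_word [5,9] (Nat.beq_refl _)) v_tI) (val_word [8,4] (Nat.beq_refl _))) hs))) (val_pow (val_mul' (val_mul' (val_mul' (val_word [5,9] (Nat.beq_refl _)) v_tI) (val_word [8,4] (Nat.beq_refl _))) hs)))) (val_pow (val_mul' (val_mul' (val_mul' (val_word [5,9] (Nat.beq_refl _)) v_tI) (val_word [8,4] (Nat.beq_refl _))) hs))) (val_pow_add (val_pow_add (val_pow_add (val_pow_add (val_pow (val_mul' (val_mul' (val_mul' (val_word [5,9] (Nat.beq_refl _)) v_tI) (val_word [8,4] (Nat.beq_refl _))) hs)) (val_pow (val_mul' (val_mul' (val_mul' (val_word [5,9] (Nat.beq_refl _)) v_tI) (val_word [8,4] (Nat.beq_refl _))) hs))) (val_pow (val_mul' (val_mul' (val_mul' (val_word [5,9] (Nat.beq_refl _)) v_tI) (val_word [8,4] (Nat.beq_refl _))) hs)))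 (val_pow_add (val_pow_add (val_pow (val_mul' (val_mul' (val_mul' (val_word [5,9] (Nat.beq_refl _)) v_tI) (val_word [8,4] (Nat.beq_refl _))) hs)) (val_pow (val_mul' (val_mul' (val_mul' (val_word [5,9] (Nat.beq_refl _)) v_tI) (val_word [8,4] (Nat.beq_refl _))) hs))) (val_pow (val_mul' (val_mul' (val_mul' (val_word [5,9] (Nat.beq_refl _)) v_tI) (val_word [8,4] (Nat.beq_refl _))) hs)))) (val_pow (val_mul' (val_mul' (val_mul' (val_word [5,9] (Nat.beq_refl _)) v_tI) (val_word [8,4] (Nat.beq_refl _))) hs)))) (val_pow (val_mul' (val_mul' (val_mul' (val_word [5,9] (Nat.beq_refl _)) v_tI) (val_word [8,4] (Nat.beq_refl _))) hs))) (val_pow_add (val_pow (val_mul' v_tI (val_mul' (val_mul' (val_word [5,9] (Nat.beq_refl _)) v_tI) (val_word [8,4] (Nat.beq_refl _))))) (val_pow (val_mul' v_tI (val_mul' (val_mul' (val_word [5,9] (Nat.beq_refl _)) v_tI) (val_word [8,4] (Nat.beq_refl _)))))))) (by decide +kernel)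

theorem v_syl4 : ∃ M, Val (syl 4) M := ⟨_, (val_mul' (val_mul' (val_mul' (val_mul' (val_mul' (val_mul' (val_mul' v_c0 v_c3) v_c32) v_c59) v_c58) v_c63) v_c32) v_c59)⟩

theorem syl4_conj (hinj : Function.Injective rho) : ∃ g, g * tI = syl 4 * g := by
  have hs : Val (syl 4) _ := (val_mul' (val_mul' (val_mul' (val_mul' (val_mul' (val_mul' (val_mul' v_c0 v_c3) v_c32) v_c59) v_c58) v_c63) v_c32) v_c59)
  refine ⟨((elt [5,7,3,7,1,3,3,5] * tI * elt [4,2,2,0,6,2,6,4]) * (syl 4)) ^ ((((((1 + 1) + 1) + ((1 + 1) + 1)) + 1) + ((((1 + 1) + 1) + ((1 + 1) + 1)) + 1)) + 1) * (tI * (elt [5,7,3,7,1,3,3,5] * tI * elt [4,2,2,0,6,2,6,4])) ^ (1 + 1), ?_⟩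
  exact eq_of_chk hinj (val_mul' (val_mul' (val_pow_add (val_pow_add (val_pow_add (val_pow_add (val_pow_add (val_pow_add (val_pow (val_mul' (val_mul' (val_mul' (val_word [5,7,3,7,1,3,3,5] (Nat.beq_refl _)) v_tI) (val_word [4,2,2,0,6,2,6,4] (Nat.beq_refl _))) hs)) (val_pow (val_mul' (val_mul' (val_mul' (val_word [5,7,3,7,1,3,3,5] (Nat.beq_refl _)) v_tI) (val_word [4,2,2,0,6,2,6,4] (Nat.beq_refl _))) hs))) (val_pow (val_mul' (val_mul' (val_mul' (val_word [5,7,3,7,1,3,3,5] (Nat.beq_refl _)) v_tI) (val_word [4,2,2,0,6,2,6,4] (Nat.beq_refl _))) hs))) (val_pow_add (val_pow_add (val_pow (val_mul' (val_mul' (val_mul' (val_word [5,7,3,7,1,3,3,5] (Nat.beq_refl _)) v_tI) (val_word [4,2,2,0,6,2,6,4] (Nat.beq_refl _))) hs)) (val_pow (val_mul' (val_mul' (val_mul' (val_word [5,7,3,7,1,3,3,5] (Nat.beq_refl _)) v_tI) (val_word [4,2,2,0,6,2,6,4] (Nat.beq_refl _))) hs))) (val_pow (val_mul' (val_mul' (val_mul' (val_word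 [5,7,3,7,1,3,3,5] (Nat.beq_refl _)) v_tI) (val_word [4,2,2,0,6,2,6,4] (Nat.beq_refl _))) hs)))) (val_pow (val_mul' (val_mul' (val_mul' (val_word [5,7,3,7,1,3,3,5] (Nat.beq_refl _)) v_tI) (val_word [4,2,2,0,6,2,6,4] (Nat.beq_refl _))) hs))) (val_pow_add (val_pow_add (val_pow_add (val_pow_add (val_pow (val_mul' (val_mul' (val_mul' (val_word [5,7,3,7,1,3,3,5] (Nat.beq_refl _)) v_tI) (val_word [4,2,2,0,6,2,6,4] (Nat.beq_refl _))) hs)) (val_pow (val_mul' (val_mul' (val_mul' (val_word [5,7,3,7,1,3,3,5] (Nat.beq_refl _)) v_tI) (val_word [4,2,2,0,6,2,6,4] (Nat.beq_refl _))) hs))) (val_pow (val_mul' (val_mul' (val_mul' (val_word [5,7,3,7,1,3,3,5] (Nat.beq_refl _)) v_tI) (val_word [4,2,2,0,6,2,6,4] (Nat.beq_refl _))) hs))) (val_pow_add (val_pow_add (val_pow (val_mul' (val_mul' (val_mul' (val_word [5,7,3,7,1,3,3,5] (Nat.beq_refl _)) v_tI) (val_word [4,2,2,0,6,2,6,4] (Nat.beq_refl _))) hs)) (val_pow (val_mul' (val_mul'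 (val_mul' (val_word [5,7,3,7,1,3,3,5] (Nat.beq_refl _)) v_tI) (val_word [4,2,2,0,6,2,6,4] (Nat.beq_refl _))) hs))) (val_pow (val_mul' (val_mul' (val_mul' (val_word [5,7,3,7,1,3,3,5] (Nat.beq_refl _)) v_tI) (val_word [4,2,2,0,6,2,6,4] (Nat.beq_refl _))) hs)))) (val_pow (val_mul' (val_mul' (val_mul' (val_word [5,7,3,7,1,3,3,5] (Nat.beq_refl _)) v_tI) (val_word [4,2,2,0,6,2,6,4] (Nat.beq_refl _))) hs)))) (val_pow (val_mul' (val_mul' (val_mul' (val_word [5,7,3,7,1,3,3,5] (Nat.beq_refl _)) v_tI) (val_word [4,2,2,0,6,2,6,4] (Nat.beq_refl _))) hs))) (val_pow_add (val_pow (val_mul' v_tI (val_mul' (val_mul' (val_word [5,7,3,7,1,3,3,5] (Nat.beq_refl _)) v_tI) (val_word [4,2,2,0,6,2,6,4] (Nat.beq_refl _))))) (val_pow (val_mul' v_tI (val_mul' (val_mul' (val_word [5,7,3,7,1,3,3,5] (Nat.beq_refl _)) v_tI) (val_word [4,2,2,0,6,2,6,4] (Nat.beq_refl _))))))) v_tI) (val_mul' hs (val_mul' (val_pow_add (val_pow_add (val_pow_add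 (val_pow_add (val_pow_add (val_pow_add (val_pow (val_mul' (val_mul' (val_mul' (val_word [5,7,3,7,1,3,3,5] (Nat.beq_refl _)) v_tI) (val_word [4,2,2,0,6,2,6,4] (Nat.beq_refl _))) hs)) (val_pow (val_mul' (val_mul' (val_mul' (val_word [5,7,3,7,1,3,3,5] (Nat.beq_refl _)) v_tI) (val_word [4,2,2,0,6,2,6,4] (Nat.beq_refl _))) hs))) (val_pow (val_mul' (val_mul' (val_mul' (val_word [5,7,3,7,1,3,3,5] (Nat.beq_refl _)) v_tI) (val_word [4,2,2,0,6,2,6,4] (Nat.beq_refl _))) hs))) (val_pow_add (val_pow_add (val_pow (val_mul' (val_mul' (val_mul' (val_word [5,7,3,7,1,3,3,5] (Nat.beq_refl _)) v_tI) (val_word [4,2,2,0,6,2,6,4] (Nat.beq_refl _))) hs)) (val_pow (val_mul' (val_mul' (val_mul' (val_word [5,7,3,7,1,3,3,5] (Nat.beq_refl _)) v_tI) (val_word [4,2,2,0,6,2,6,4] (Nat.beq_refl _))) hs))) (val_pow (val_mul' (val_mul' (val_mul' (val_word [5,7,3,7,1,3,3,5] (Nat.beq_refl _)) v_tI) (val_word [4,2,2,0,6,2,6,4] (Nat.beq_refl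 _))) hs)))) (val_pow (val_mul' (val_mul' (val_mul' (val_word [5,7,3,7,1,3,3,5] (Nat.beq_refl _)) v_tI) (val_word [4,2,2,0,6,2,6,4] (Nat.beq_refl _))) hs))) (val_pow_add (val_pow_add (val_pow_add (val_pow_add (val_pow (val_mul' (val_mul' (val_mul' (val_word [5,7,3,7,1,3,3,5] (Nat.beq_refl _)) v_tI) (val_word [4,2,2,0,6,2,6,4] (Nat.beq_refl _))) hs)) (val_pow (val_mul' (val_mul' (val_mul' (val_word [5,7,3,7,1,3,3,5] (Nat.beq_refl _)) v_tI) (val_word [4,2,2,0,6,2,6,4] (Nat.beq_refl _))) hs))) (val_pow (val_mul' (val_mul' (val_mul' (val_word [5,7,3,7,1,3,3,5] (Nat.beq_refl _)) v_tI) (val_word [4,2,2,0,6,2,6,4] (Nat.beq_refl _))) hs))) (val_pow_add (val_pow_add (val_pow (val_mul' (val_mul' (val_mul' (val_word [5,7,3,7,1,3,3,5] (Nat.beq_refl _)) v_tI) (val_word [4,2,2,0,6,2,6,4] (Nat.beq_refl _))) hs)) (val_pow (val_mul' (val_mul' (val_mul' (val_word [5,7,3,7,1,3,3,5] (Nat.beq_refl _)) v_tI) (val_word [4,2,2,0,6,2,6,4]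 (Nat.beq_refl _))) hs))) (val_pow (val_mul' (val_mul' (val_mul' (val_word [5,7,3,7,1,3,3,5] (Nat.beq_refl _)) v_tI) (val_word [4,2,2,0,6,2,6,4] (Nat.beq_refl _))) hs)))) (val_pow (val_mul' (val_mul' (val_mul' (val_word [5,7,3,7,1,3,3,5] (Nat.beq_refl _)) v_tI) (val_word [4,2,2,0,6,2,6,4] (Nat.beq_refl _))) hs)))) (val_pow (val_mul' (val_mul' (val_mul' (val_word [5,7,3,7,1,3,3,5] (Nat.beq_refl _)) v_tI) (val_word [4,2,2,0,6,2,6,4] (Nat.beq_refl _))) hs))) (val_pow_add (val_pow (val_mul' v_tI (val_mul' (val_mul' (val_word [5,7,3,7,1,3,3,5] (Nat.beq_refl _)) v_tI) (val_word [4,2,2,0,6,2,6,4] (Nat.beq_refl _))))) (val_pow (val_mul' v_tI (val_mul' (val_mul' (val_word [5,7,3,7,1,3,3,5] (Nat.beq_refl _)) v_tI) (val_word [4,2,2,0,6,2,6,4] (Nat.beq_refl _)))))))) (by decide +kernel)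

theorem syl_ncomm : syl 0 * syl 1 ≠ syl 1 * syl 0 :=
  ne_of_val (val_mul' (val_mul' (val_mul' (val_mul' (val_mul' (val_mul' (val_mul' (val_mul' (val_mul' v_c0 v_c4) v_c3) v_c13) v_c0) v_c4) v_c32) (val_mul' v_c58 v_c58)) v_c32) (val_mul' (val_mul' (val_mul' (val_mul' (val_mul' (val_mul' (val_mul' (val_mul' v_c0 v_c4) v_c3) v_c13) v_c0) v_c4) v_c59) (val_mul' v_c63 v_c63)) v_c59)) (val_mul' (val_mul' (val_mul' (val_mul' (val_mul' (val_mul' (val_mul' (val_mul' (val_mul' v_c0 v_c4) v_c3) v_c13) v_c0) v_c4) v_c59) (val_mul' v_c63 v_c63)) v_c59) (val_mul' (val_mul' (val_mul' (val_mul' (val_mul' (val_mul' (val_mul' (val_mul' v_c0 v_c4) v_c3) v_c13) v_c0) v_c4) v_c32) (val_mul' v_c58 v_c58)) v_c32)) (by decide +kernel)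

theorem syl0_perm : ∀ i, (z11 0 * z11 2 * z11 1 * z11 3 * z11 0 * z11 2 * z11 4 * (z11 5 * z11 5) * z11 4).val i = Syl11.a1 i := by decide +kernel

theorem syl1_perm : ∀ i, (z11 0 * z11 2 * z11 1 * z11 3 * z11 0 * z11 2 * z11 6 * (z11 7 * z11 7) * z11 6).val i = Syl11.a2 i := by decide +kernel

theorem syl2_perm : ∀ i, (z11 0 * z11 1 * z11 4 * z11 5 * z11 0 * z11 1 * z11 2 * z11 3).val i = Syl11.qb i := by decide +kernel

theorem syl3_perm : ∀ i, (z11 0 * z11 1 * z11 2 * z11 3 * z11 4 * z11 5 * z11 2 * z11 3).val i = Syl11.qc i := by decide +kernel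

theorem syl4_perm : ∀ i, (z11 0 * z11 1 * z11 4 * z11 6 * z11 5 * z11 7 * z11 4 * z11 6).val i = Syl11.qd i := by decide +kernel

end Cfsg.Agent.H37.LyPerm
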