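import Cfsg.Agent.H27.LyRep.Main

/-!
Values of elements of the presented Lyons group in the packed 111-dimensional representation.
-/

set_option autoImplicit false
set_option maxRecDepth 100000

namespace Cfsg.Agent.H37.LyPerm

open Cfsg.Agent.Compute
open Cfsg.Agent.H27.LyRep
open Cfsg.Spor
open Cfsg.Agent.H45 (evalW evalW_cons)

local instance : Fact (Nat.Prime 5) := ⟨by norm_num⟩

/-- the five generators -/
def gen5 (i : Fin 5) : Cfsg.Spor.Ly := PresentedGroup.of (![Ly.Gen.a, Ly.Gen.b, Ly.Gen.c, Ly.Gen.d, Ly.Gen.z] i)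

/-- the element of a word in a, b, c, d, z and their inverses -/
noncomputable def elt (w : List ℕ) : Cfsg.Spor.Ly := FreeGroup.lift gen5 (evalW fL w)

theorem rho_gen5 (i : Fin 5) : rho (gen5 i) = f5 i := by
  rw [gen5, rho_of, fG, gF]
  fin_cases i <;> simp [gidx, gword, evalW, fL]

theorem rho_elt (w : List ℕ) : rho (elt w) = FreeGroup.lift f5 (evalW fL w) := by
  rw [elt, ← MonoidHom.comp_apply]
  congr 1
  ext i
  simp [rho_gen5]

/-- `M` is the value of `x` -/
def Val (x : Cfsg.Spor.Ly) (M : ℕ) : Prop := MatOK 12 111 5 M ∧ rho x = Cfsg.Agent.H27.LyRep.S.den M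

theorem val_one : Val 1 one111 :=
  ⟨matOK_one (by norm_num) (by norm_num), (map_one rho).trans Cfsg.Agent.H27.LyRep.S.den_one.symm⟩

theorem val_word (w : List ℕ) {M : ℕ} (h : Nat.beq (evM w) M = true) : Val (elt w) M := by
  rw [← Nat.eq_of_beq_eq_true h]
  exact ⟨(evM_ok w).1, (rho_elt w).trans (evM_ok w).2.symm⟩

theorem val_mul {x y : Cfsg.Spor.Ly} {A B C : ℕ} (hx : Val x A) (hy : Val y B)
    (h : Nat.beq (mulF 111 A B) C = true) : Val (x * y) C := by
  rw [← Nat.eq_of_beq_eq_true h, mulF_eq (by norm_num) le_rfl hx.1.1 hy.1.1]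
  refine ⟨(mul_ok_gen (by norm_num) (by norm_num) (by norm_num) hx.1 hy.1).1, ?_⟩
  rw [map_mul, hx.2, hy.2]
  exact ((mul_ok_gen (by norm_num) (by norm_num) (by norm_num) hx.1 hy.1).2).symm

theorem val_mul' {x y : Cfsg.Spor.Ly} {A B : ℕ} (hx : Val x A) (hy : Val y B) :
    Val (x * y) (mulF 111 A B) := val_mul hx hy (Nat.beq_refl _)

theorem eq_of_chk (hinj : Function.Injective rho) {x y : Cfsg.Spor.Ly} {A B : ℕ} (hx : Val x A)
    (hy : Val y B) (h : Nat.beq A B = true) : x = y :=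
  hinj (hx.2.trans ((congrArg _ (Nat.eq_of_beq_eq_true h)).trans hy.2.symm))

theorem eq_of_val (hinj : Function.Injective rho) {x y : Cfsg.Spor.Ly} {A : ℕ} (hx : Val x A)
    (hy : Val y A) : x = y := hinj (hx.2.trans hy.2.symm)

theorem ne_of_val {x y : Cfsg.Spor.Ly} {A B : ℕ} (hx : Val x A) (hy : Val y B)
    (h : Nat.beq A B = false) : x ≠ y := by
  rintro rfl
  have h2 := (Cfsg.Agent.H27.LyRep.S.eqv_iff hx.1 hy.1).2 (hx.2.symm.trans hy.2)
  have h3 : Nat.beq A B = true := h2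
  rw [h] at h3
  exact Bool.noConfusion h3

end Cfsg.Agent.H37.LyPerm
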